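import Cfsg.Agent.SuzukiRankOne.SLTwoRel
import Cfsg.Agent.H721.SR.Base

/-!
# `SL₂(K)` in characteristic two (team SR, S4971; helper168)

* `sr` : every element is inverted by an element with square one;
* `sq_of_inv` : an element inverting an element with `s * s ≠ 1` has square one;
* `sq_of_comm` : an element commuting with `l ≠ 1`, `l * l = 1`, has square one;
* `conj_U` : an element `l ≠ 1`, `l * l = 1` is conjugate to `U a`, `a ≠ 0`.
-/

set_option autoImplicit false

namespace Cfsg.Agent.H168.SRHex.SLTwo

open Cfsg.Agent.SuzukiRankOne.SLTwoRel Cfsg.Agent.H721.SR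
open Matrix (SpecialLinearGroup)

universe u

variable {K : Type u} [Field K] [CharP K 2]

omit [CharP K 2] in
theorem mk_mul {a b c d a' b' c' d' : K} (h : a * d - b * c = 1) (h' : a' * d' - b' * c' = 1) :
    mat (mk a b c d h * mk a' b' c' d' h') = !![a * a' + b * c', a * b' + b * d'; c * a' + d * c', c * b' + d * d'] := by
  rw [mat_mul, mat_mk, mat_mk, Matrix.mul_fin_two]

omit [CharP K 2] in
theorem mk_eq {a b c d a' b' c' d' : K} (h : a * d - b * c = 1) (h' : a' * d' - b' * c' = 1)
    (e : mk a b c d h = mk a' b' c' d' h') : a = a' ∧ b = b' ∧ c = c' ∧ d = d' := by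
  have e1 : mat (mk a b c d h) = mat (mk a' b' c' d' h') := by rw [e]
  rw [mat_mk, mat_mk] at e1
  exact ⟨congrFun (congrFun e1 0) 0, congrFun (congrFun e1 0) 1, congrFun (congrFun e1 1) 0,
    congrFun (congrFun e1 1) 1⟩

omit [CharP K 2] in
theorem eq_of_mat {A B : SpecialLinearGroup (Fin 2) K} (h : mat A = mat B) : A = B := mat_ext h

theorem det_add {a b c d : K} (h : a * d - b * c = 1) : a * d + b * c = 1 := by
  rw [← h, CharTwo.sub_eq_add]

/-- square one -/
theorem sq_iff {a b c d : K} (h : a * d - b * c = 1) :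
    mk a b c d h * mk a b c d h = 1 ↔ a + d = 0 := by
  have h' := det_add h
  have h2 : (2 : K) = 0 := CharTwo.two_eq_zero
  constructor
  · intro e
    have e1 : mat (mk a b c d h * mk a b c d h) = mat 1 := by rw [e]
    rw [mk_mul, mat_one] at e1
    have e00 : a * a + b * c = 1 := congrFun (congrFun e1 0) 0
    have e01 : a * b + b * d = 0 := congrFun (congrFun e1 0) 1
    have e10 : c * a + d * c = 0 := congrFun (congrFun e1 1) 0
    have e11 : c * b + d * d = 1 := congrFun (congrFun e1 1) 1
    have k1 : a * (a + d) = 0 := by linear_combination e00 + h' + (1 - b * c) * h2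
    have k2 : d * (a + d) = 0 := by linear_combination e11 + h' + (1 - b * c) * h2
    by_contra hne
    have ha : a = 0 := (mul_eq_zero.1 k1).resolve_right hne
    have hd : d = 0 := (mul_eq_zero.1 k2).resolve_right hne
    exact hne (by rw [ha, hd, add_zero])
  · intro e
    have hd : d = a := by linear_combination e - a * h2
    subst hd
    apply mat_ext
    rw [mk_mul, mat_one]
    have k1 : d * d + b * c = 1 := h'
    have k2 : d * b + b * d = 0 := by linear_combination d * b * h2
    have k3 : c * d + d * c = 0 := by linear_combination d * c * h2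
    have k4 : c * b + d * d = 1 := by linear_combination h'
    rw [k1, k2, k3, k4]

theorem mk_inv {a b c d : K} (h : a * d - b * c = 1) :
    (mk a b c d h)⁻¹ = mk d b c a (by rw [← h]; ring) := by
  have h' := det_add h
  have h2 : (2 : K) = 0 := CharTwo.two_eq_zero
  symm
  apply eq_inv_of_mul_eq_one_left
  apply mat_ext
  rw [mk_mul, mat_one]
  have k1 : d * a + b * c = 1 := by linear_combination h'
  have k2 : d * b + b * d = 0 := by linear_combination d * b * h2
  have k3 : c * a + a * c = 0 := by linear_combination a * c * h2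
  have k4 : c * b + a * d = 1 := by linear_combination h'
  rw [k1, k2, k3, k4]

/-- **Every element of `SL₂(K)` is strongly real.** -/
theorem sr (A : SpecialLinearGroup (Fin 2) K) : SR A := by
  obtain ⟨a, b, c, d, h, rfl⟩ := exists_mk A
  have h' := det_add h
  have h2 : (2 : K) = 0 := CharTwo.two_eq_zero
  by_cases ht : a + d = 0
  · exact sr_of_sq ((sq_iff h).2 ht)
  -- an element `(x, y; z, x)` with `x (a + d) + y c + z b = 0`
  have key : ∀ x y z : K, (hx : x * x - y * z = 1) → x * (a + d) + y * c + z * b = 0 → SR (mk a b c d h) := by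
    intro x y z hx e
    have hs : mk x y z x hx * mk x y z x hx = 1 := (sq_iff hx).2 (CharTwo.add_self_eq_zero x)
    have hx' := det_add hx
    refine ⟨mk x y z x hx, hs, ?_⟩
    rw [inv_eq_of_mul_eq_one_left hs, mk_inv]
    apply mat_ext
    rw [mat_mul, mat_mul, mat_mk, mat_mk, mat_mk, Matrix.mul_fin_two, Matrix.mul_fin_two]
    have k1 : (x * a + y * c) * x + (x * b + y * d) * z = d := by
      linear_combination d * hx' + x * e - (d * x * x + x * z * b) * h2 + x * z * b * h2
    have k2 : (x * a + y * c) * y + (x * b + y * d) * x = b := by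
      linear_combination b * hx' + y * e - (b * y * z) * h2
    have k3 : (z * a + x * c) * x + (z * b + x * d) * z = c := by
      linear_combination c * hx' + z * e - (c * y * z) * h2
    have k4 : (z * a + x * c) * y + (z * b + x * d) * x = a := by
      linear_combination a * hx' + x * e - (a * x * x) * h2
    rw [k1, k2, k3, k4]
  by_cases hc : c = 0
  · by_cases hb : b = 0
    · refine key 0 1 1 ?_ ?_
      · rw [CharTwo.sub_eq_add]; ring
      · rw [hb, hc]; ring
    · refine key 1 0 ((a + d) / b) ?_ ?_
      · ring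
      · rw [div_mul_cancel₀ _ hb]
        linear_combination (a + d) * h2
  · refine key 1 ((a + d) / c) 0 ?_ ?_
    · ring
    · rw [div_mul_cancel₀ _ hc]
      linear_combination (a + d) * h2

/-- An element which inverts `s`, `s * s ≠ 1`, has square one. -/
theorem sq_of_inv {l s : SpecialLinearGroup (Fin 2) K} (e : l * s * l⁻¹ = s⁻¹) (hs : s * s ≠ 1) : l * l = 1 := by
  obtain ⟨a, b, c, d, h, rfl⟩ := exists_mk s
  obtain ⟨x, y, z, w, hx, rfl⟩ := exists_mk l
  have h2 : (2 : K) = 0 := CharTwo.two_eq_zero
  rw [Ne, sq_iff] at hs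
  rw [sq_iff]
  have e1 : mk x y z w hx * mk a b c d h = mk d b c a (by rw [← h]; ring) * mk x y z w hx := by
    rw [← mk_inv h, ← e]; group
  have e2 : mat (mk x y z w hx * mk a b c d h) = mat (mk d b c a (by rw [← h]; ring) * mk x y z w hx) := by rw [e1]
  rw [mk_mul, mk_mul] at e2
  have e00 : x * a + y * c = d * x + b * z := congrFun (congrFun e2 0) 0
  have e11 : z * b + w * d = c * y + a * w := congrFun (congrFun e2 1) 1
  have e01 : x * b + y * d = d * y + b * w := congrFun (congrFun e2 0) 1
  have e10 : z * a + w * c = c * x + a * z := congrFun (congrFun e2 1) 0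
  -- `(x + w) b = 0`, `(x + w) c = 0`, `(x + w)(a + d) = 0`
  have k : (x + w) * (a + d) = 0 := by
    linear_combination e00 + e11 + (d * x + a * w + b * z - b * z) * h2 + (c * y - c * y) * h2
  exact (mul_eq_zero.1 k).resolve_right hs

/-- An element commuting with an involution has square one. -/
theorem sq_of_comm {l s : SpecialLinearGroup (Fin 2) K} (hl : l * l = 1) (hl1 : l ≠ 1) (e : l * s = s * l) :
    s * s = 1 := by
  obtain ⟨a, b, c, d, h, rfl⟩ := exists_mk s
  obtain ⟨x, y, z, w, hx, rfl⟩ := exists_mk l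
  have h2 : (2 : K) = 0 := CharTwo.two_eq_zero
  rw [sq_iff] at hl
  have hw : w = x := by linear_combination hl - x * h2
  subst hw
  rw [sq_iff]
  have e2 : mat (mk w y z w hx * mk a b c d h) = mat (mk a b c d h * mk w y z w hx) := by rw [e]
  rw [mk_mul, mk_mul] at e2
  have e01 : w * b + y * d = a * y + b * w := congrFun (congrFun e2 0) 1
  have e10 : z * a + w * c = c * w + d * z := congrFun (congrFun e2 1) 0
  have k1 : y * (a + d) = 0 := by linear_combination e01 + a * y * h2
  have k2 : z * (a + d) = 0 := by linear_combination e10 + d * z * h2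
  by_contra hne
  have hy : y = 0 := (mul_eq_zero.1 k1).resolve_right hne
  have hz : z = 0 := (mul_eq_zero.1 k2).resolve_right hne
  apply hl1
  have hx' := det_add hx
  rw [hy, hz] at hx'
  have hw1 : (w + 1) * (w + 1) = 0 := by linear_combination hx' + (w + 1) * h2
  have hw2 : w = 1 := by
    have := mul_self_eq_zero.1 hw1
    linear_combination this - h2
  apply mat_ext
  rw [mat_mk, mat_one, hy, hz, hw2]

/-- An element of order two is conjugate to `U a`, `a ≠ 0`. -/
theorem conj_U {l : SpecialLinearGroup (Fin 2) K} (hl : l * l = 1) (hl1 : l ≠ 1) :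
    ∃ (p : SpecialLinearGroup (Fin 2) K) (a : K), a ≠ 0 ∧ p * l * p⁻¹ = U a := by
  obtain ⟨x, y, z, w, hx, rfl⟩ := exists_mk l
  have h2 : (2 : K) = 0 := CharTwo.two_eq_zero
  rw [sq_iff] at hl
  have hw : w = x := by linear_combination hl - x * h2
  subst hw
  have hx' := det_add hx
  by_cases hz : z = 0
  · have hw1 : (w + 1) * (w + 1) = 0 := by
      rw [hz] at hx'
      linear_combination hx' + (w + 1) * h2
    have hw2 : w = 1 := by
      have := mul_self_eq_zero.1 hw1
      linear_combination this - h2
    refine ⟨1, y, ?_, ?_⟩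
    · rintro rfl
      apply hl1
      apply mat_ext
      rw [mat_mk, mat_one, hz, hw2]
    · rw [one_mul, inv_one, mul_one]
      apply mat_ext
      rw [mat_mk, U_mat, hz, hw2]
  · -- `p = (0, 1/z; z, w + 1)`
    have hp : (0 : K) * (w + 1) - z⁻¹ * z = 1 := by
      rw [inv_mul_cancel₀ hz, CharTwo.sub_eq_add]; ring
    refine ⟨mk 0 z⁻¹ z (w + 1) hp, z⁻¹, inv_ne_zero hz, ?_⟩
    rw [mul_inv_eq_iff_eq_mul]
    apply mat_ext
    rw [mk_mul, mat_mul, U_mat, mat_mk, Matrix.mul_fin_two]
    have k1 : 0 * w + z⁻¹ * z = 1 * 0 + z⁻¹ * z := by ring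
    have k2 : 0 * y + z⁻¹ * w = 1 * z⁻¹ + z⁻¹ * (w + 1) := by linear_combination -z⁻¹ * h2
    have k3 : z * w + (w + 1) * z = 0 * 0 + 1 * z := by linear_combination (z * w) * h2
    have k4 : z * y + (w + 1) * w = 0 * z⁻¹ + 1 * (w + 1) := by linear_combination hx'
    rw [k1, k2, k3, k4]

/-- A 2-element commuting with a non-trivial element of odd order is trivial. -/
theorem eq_one_of_comm {l s : SpecialLinearGroup (Fin 2) K} {n : ℕ} (hl : l ^ 2 ^ n = 1) (hs1 : s ≠ 1) {m : ℕ}
    (hm : Odd m) (hs : s ^ m = 1) (e : l * s = s * l) : l = 1 := by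
  induction n with
  | zero => simpa using hl
  | succ n ih =>
    have h1 : l ^ 2 ^ n * l ^ 2 ^ n = 1 := by rw [← pow_add, ← two_mul, ← pow_succ']; exact hl
    by_cases h3 : l ^ 2 ^ n = 1
    · exact ih h3
    · exfalso
      have h4 : Commute l s := e
      have h5 := sq_of_comm h1 h3 (h4.pow_left (2 ^ n)).eq
      apply hs1
      obtain ⟨r, hr⟩ := hm
      rw [hr, pow_succ, pow_mul, pow_two, h5, one_pow, one_mul] at hs
      exact hs

end Cfsg.Agent.H168.SRHex.SLTwo
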