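import Cfsg.Agent.StdRank2.HexRank
import Cfsg.Agent.StdRank2.HexFacts
import Cfsg.Agent.StdRank2.HexSylow
import Cfsg.Agent.StdRank2.HexCent
import Cfsg.Agent.H967.CopConj
import Cfsg.Agent.H168.SRHex.SLTwo

/-!
# Levi subgroups of a hexagonal root system in characteristic two (team SR, S4971; helper168)

`P = gen (arc k 7) = Q L`, `Q = gen (arc (k + 1) 5)`, `L = gen {k, k + 6} ≅ SL₂`.
-/

set_option autoImplicit false

namespace Cfsg.Agent.H168.SRHex.Levi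

open Cfsg.Agent.StdRank2.Hex Cfsg.Agent.StdRank2.Hex.HexTwo Cfsg.Agent.SplitTwo
open Cfsg.Agent.SuzukiRankOne.SLTwoRel Cfsg.Agent.H721.SR
open Matrix (SpecialLinearGroup)

universe u v

variable {E : Type u} [Field E] {σ : E ≃+* E} {G : Type v} [Group G] {x : ZMod 12 → E → G} (h : HexTwo σ x)
include h

/-- the homomorphism `SL₂ → L` -/
theorem exists_theta [Finite E] (k : ZMod 12) : ∃ (K : Type u) (_ : Field K) (_ : CharP K 2) (ι : K →+* E)
    (θ : SpecialLinearGroup (Fin 2) K →* G), Par σ k ι ∧ Function.Injective θ ∧ (∀ a, θ (U a) = x k (ι a)) ∧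
      θ (Tm K) = nn x k ∧ (∀ a, θ (loU a) = x (k + 6) (ι a)) ∧ θ.range = gen σ x {k, k + 6} := by
  rcases Nat.mod_two_eq_zero_or_one k.val with hk | hk
  · have hP : Par σ k (Fix σ).subtype := Par.even hk
    have hc : CharP (Fix σ) 2 := h.charP_of (Fix σ).subtype
    obtain ⟨θ, h1, h2, -, h3, h4, h5⟩ := h.exists_sl hP
    exact ⟨Fix σ, inferInstance, hc, (Fix σ).subtype, θ, hP, h1, h2, h3, h4, h5⟩
  · have hP : Par σ k (RingHom.id E) := Par.odd hk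
    have hc : CharP E 2 := h.charP_two
    obtain ⟨θ, h1, h2, -, h3, h4, h5⟩ := h.exists_sl hP
    exact ⟨E, inferInstance, hc, RingHom.id E, θ, hP, h1, h2, h3, h4, h5⟩

/-- every element of `L` is strongly real in `L` -/
theorem L_sr [Finite E] {k : ZMod 12} {g : G} (hg : g ∈ gen σ x {k, k + 6}) :
    ∃ t ∈ gen σ x {k, k + 6}, t * t = 1 ∧ t * g * t⁻¹ = g⁻¹ := by
  obtain ⟨K, _, _, ι, θ, hP, hi, h1, h2, h3, hr⟩ := exists_theta h k
  rw [← hr] at hg ⊢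
  obtain ⟨A, rfl⟩ := hg
  obtain ⟨t, ht, e⟩ := SLTwo.sr A
  exact ⟨θ t, ⟨t, rfl⟩, by rw [← map_mul, ht, map_one], by rw [← map_mul, ← map_inv, ← map_mul, e, map_inv]⟩

/-- an element of `L` inverting `s` -/
theorem L_sq_of_inv [Finite E] {k : ZMod 12} {l s : G} (hl : l ∈ gen σ x {k, k + 6}) (hs : s ∈ gen σ x {k, k + 6})
    (e : l * s * l⁻¹ = s⁻¹) (h1 : s * s ≠ 1) : l * l = 1 := by
  obtain ⟨K, _, _, ι, θ, hP, hi, -, -, -, hr⟩ := exists_theta h k
  rw [← hr] at hl hs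
  obtain ⟨A, rfl⟩ := hl
  obtain ⟨B, rfl⟩ := hs
  have := SLTwo.sq_of_inv (l := A) (s := B) (hi (by rw [map_mul, map_mul, map_inv, map_inv, e])) (fun e1 => h1 (by
    rw [← map_mul, e1, map_one]))
  rw [← map_mul, this, map_one]

/-- elements of order two of `L` -/
theorem L_conj_x [Finite E] {k : ZMod 12} {l : G} (hl : l ∈ gen σ x {k, k + 6}) (e : l * l = 1) (h1 : l ≠ 1) :
    ∃ p ∈ gen σ x {k, k + 6}, ∃ a, Ok σ k a ∧ a ≠ 0 ∧ p * l * p⁻¹ = x k a := by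
  obtain ⟨K, _, _, ι, θ, hP, hi, h2, -, -, hr⟩ := exists_theta h k
  rw [← hr] at hl ⊢
  obtain ⟨A, rfl⟩ := hl
  obtain ⟨p, a, ha, e1⟩ := SLTwo.conj_U (l := A) (hi (by rw [map_mul, e, map_one])) (fun e1 => h1 (by rw [e1, map_one]))
  refine ⟨θ p, ⟨p, rfl⟩, ι a, hP.ok a, fun h0 => ha ((map_eq_zero ι).1 h0), ?_⟩
  rw [← map_mul, ← map_inv, ← map_mul, e1, h2]

/-- a 2-element of `L` commuting with `s ≠ 1` of odd order -/
theorem L_eq_one [Finite E] {k : ZMod 12} {l s : G} (hl : l ∈ gen σ x {k, k + 6}) (hs : s ∈ gen σ x {k, k + 6})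
    {n : ℕ} (hn : l ^ 2 ^ n = 1) (hs1 : s ≠ 1) {m : ℕ} (hm : Odd m) (hsm : s ^ m = 1) (e : l * s = s * l) : l = 1 := by
  obtain ⟨K, _, _, ι, θ, hP, hi, h2, -, -, hr⟩ := exists_theta h k
  rw [← hr] at hl hs
  obtain ⟨A, rfl⟩ := hl
  obtain ⟨B, rfl⟩ := hs
  have := SLTwo.eq_one_of_comm (l := A) (s := B) (n := n) (hi (by rw [map_pow, hn, map_one]))
    (fun e1 => hs1 (by rw [e1, map_one])) hm (hi (by rw [map_pow, hsm, map_one])) (hi (by rw [map_mul, map_mul, e]))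
  rw [this, map_one]

omit h in
theorem L_le (k : ZMod 12) : gen σ x {k, k + 6} ≤ gen σ x (arc k 7) := gen_mono (by
  rintro l (rfl | hl)
  · rw [mem_arc, sub_self]; decide
  · rw [Set.mem_singleton_iff] at hl
    subst hl
    rw [mem_arc, add_sub_cancel_left]; decide)

omit h in
theorem Q_le (k : ZMod 12) : gen σ x (arc (k + 1) 5) ≤ gen σ x (arc k 7) := gen_mono (by
  intro l hl
  rw [mem_arc] at hl ⊢
  have : ∀ k l : ZMod 12, (l - (k + 1)).val < 5 → (l - k).val < 7 := by decide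
  exact this k l hl)

/-- `Q` is normal in `P` -/
theorem Q_conj {k : ZMod 12} {g y : G} (hg : g ∈ gen σ x (arc k 7)) (hy : y ∈ gen σ x (arc (k + 1) 5)) :
    g * y * g⁻¹ ∈ gen σ x (arc (k + 1) 5) := by
  obtain ⟨q, hq, l, hl, rfl⟩ := (h.mem_P k).1 hg
  have h1 := h.L_conj k hl hy
  have e : q * l * y * (q * l)⁻¹ = q * (l * y * l⁻¹) * q⁻¹ := by group
  rw [e]
  exact mul_mem (mul_mem hq h1) (inv_mem hq)

/-- `L ∩ Q = 1` -/
theorem eq_one_of_LQ [Finite E] {k : ZMod 12} {g : G} (hg : g ∈ gen σ x {k, k + 6}) (hQ : g ∈ gen σ x (arc (k + 1) 5)) :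
    g = 1 := by
  have hx1 : x k 1 ∈ gen σ x {k, k + 6} := x_mem_gen (Set.mem_insert _ _) (ok_one σ k)
  -- `g (x k 1) g⁻¹ (x k 1)⁻¹ ∈ Q`
  have comm : ∀ g' ∈ gen σ x (arc (k + 1) 5), g' * (x k 1 * g'⁻¹ * (x k 1)⁻¹) ∈ gen σ x (arc (k + 1) 5) :=
    fun g' hg' => mul_mem hg' (Q_conj h (L_le k hx1) (inv_mem hg'))
  rcases h.rank_bruhat hg with ⟨a, t, ha, ht, ht0, rfl⟩ | ⟨a, t, b, ha, ht, hb, ht0, rfl⟩
  · have h1 := comm _ hQ
    have okt : Ok σ k (t ^ 2) := by rw [pow_two]; exact ht.mul ht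
    have e1 : x k a * hh x k t * (x k 1 * (x k a * hh x k t)⁻¹ * (x k 1)⁻¹) = x k (t ^ 2 + 1) := by
      have e2 := h.tor k k ht0 ht (ok_one σ k)
      rw [sub_self, ch_zero_right, mul_one] at e2
      have e3 : x k a * hh x k t * (x k 1 * (x k a * hh x k t)⁻¹ * (x k 1)⁻¹) =
          x k a * (hh x k t * x k 1 * (hh x k t)⁻¹) * (x k a)⁻¹ * (x k 1)⁻¹ := by group
      rw [e3, e2, (h.x_comm_same ha okt).eq, mul_inv_cancel_right, h.x_inv (ok_one σ k), ← h.add k _ _ okt (ok_one σ k)]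
    rw [e1] at h1
    have h2 := h.mem_first_eq_zero (okt.add (ok_one σ k)) h1
    have ht1 : t = 1 := by
      apply h.sq_eq_one
      have := eq_neg_of_add_eq_zero_left h2
      rw [h.neg_eq] at this
      rw [← pow_two, this]
    rw [ht1, h.hh_one, mul_one] at hQ ⊢
    rw [h.mem_first_eq_zero ha hQ, h.x_zero]
  · exfalso
    -- conjugate by `x k b`
    have hxb : x k b ∈ gen σ x {k, k + 6} := x_mem_gen (Set.mem_insert _ _) hb
    have h0 := Q_conj h (L_le k hxb) hQ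
    have e0 : x k b * (x k a * hh x k t * nn x k * x k b) * (x k b)⁻¹ = x k (b + a) * nt x k t := by
      rw [h.add k b a hb ha, ← h.hh_mul_nn k t]; group
    rw [e0] at h0
    have h1 := comm _ h0
    have hba := hb.add ha
    have e1 : x k (b + a) * nt x k t * (x k 1 * (x k (b + a) * nt x k t)⁻¹ * (x k 1)⁻¹) =
        x k (b + a) * x (k + 6) (ch σ k 6 t) * (x k (b + a))⁻¹ * (x k 1)⁻¹ := by
      have e2 := h.nt_act k k ht0 ht (ok_one σ k)
      rw [mul_one, show 2 * k + 6 - k = k + 6 by ring, show k + 6 - k = 6 by ring] at e2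
      rw [← e2]; group
    rw [e1] at h1
    have hch : Ok σ (k + 6) (ch σ k 6 t) := ok_ch h.cube k 6 ht
    have hm : ∀ c, Ok σ k c → x k c ∈ gen σ x (arc k 6) := fun c hc => x_mem_gen (self_mem_arc (by norm_num)) hc
    have h2 : x (k + 6) (ch σ k 6 t) ∈ gen σ x (arc k 6) := by
      have h3 : x k (b + a) * x (k + 6) (ch σ k 6 t) * (x k (b + a))⁻¹ * (x k 1)⁻¹ ∈ gen σ x (arc k 6) :=
        gen_mono (arc_succ_sub (by norm_num)) h1
      have h4 := mul_mem (mul_mem (inv_mem (hm _ hba)) (mul_mem h3 (hm _ (ok_one σ k)))) (hm _ hba)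
      have e5 : (x k (b + a))⁻¹ * (x k (b + a) * x (k + 6) (ch σ k 6 t) * (x k (b + a))⁻¹ * (x k 1)⁻¹ * x k 1) * x k (b + a) =
        x (k + 6) (ch σ k 6 t) := by group
      rwa [e5] at h4
    have hne : ch σ k 6 t ≠ 0 := by
      unfold ch
      split_ifs
      · show (t ^ 2)⁻¹ ≠ 0
        exact inv_ne_zero (pow_ne_zero 2 ht0)
      · show (t ^ 2)⁻¹ ≠ 0
        exact inv_ne_zero (pow_ne_zero 2 ht0)
    have h6 := h.root_mem_arc (by norm_num) hch hne h2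
    rw [mem_arc, add_sub_cancel_left] at h6
    exact absurd h6 (by decide)

/-- the Levi components are unique -/
theorem uniq [Finite E] {k : ZMod 12} {q q' l l' : G} (hq : q ∈ gen σ x (arc (k + 1) 5))
    (hq' : q' ∈ gen σ x (arc (k + 1) 5)) (hl : l ∈ gen σ x {k, k + 6}) (hl' : l' ∈ gen σ x {k, k + 6})
    (e : q * l = q' * l') : q = q' ∧ l = l' := by
  have e1 : q'⁻¹ * q = l' * l⁻¹ := by
    rw [eq_mul_inv_iff_mul_eq, mul_assoc, e, inv_mul_cancel_left]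
  have h1 := eq_one_of_LQ h (mul_mem hl' (inv_mem hl)) (by rw [← e1]; exact mul_mem (inv_mem hq') hq)
  have e2 : l = l' := (mul_inv_eq_one.1 h1).symm
  subst e2
  exact ⟨mul_right_cancel e, rfl⟩

/-- powers -/
theorem exists_pow {k : ZMod 12} {q l : G} (hq : q ∈ gen σ x (arc (k + 1) 5)) (hl : l ∈ gen σ x {k, k + 6}) (n : ℕ) :
    ∃ q' ∈ gen σ x (arc (k + 1) 5), (q * l) ^ n = q' * l ^ n := by
  induction n with
  | zero => exact ⟨1, one_mem _, by simp⟩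
  | succ n ih =>
    obtain ⟨q', hq', e⟩ := ih
    refine ⟨q' * (l ^ n * q * (l ^ n)⁻¹), mul_mem hq' (Q_conj h (L_le k (pow_mem hl n)) hq), ?_⟩
    rw [pow_succ, e, pow_succ]; group

theorem pow_eq_one [Finite E] {k : ZMod 12} {q l : G} (hq : q ∈ gen σ x (arc (k + 1) 5)) (hl : l ∈ gen σ x {k, k + 6})
    {n : ℕ} (e : (q * l) ^ n = 1) : l ^ n = 1 := by
  obtain ⟨q', hq', e1⟩ := exists_pow h hq hl n
  rw [e] at e1
  exact ((uniq h (one_mem _) hq' (one_mem _) (pow_mem hl n) (by rw [one_mul, e1])).2).symm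

/-- **Elements of odd order of `P` are conjugate in `P` to elements of `L`.** -/
theorem exists_conj_L [Finite E] [Finite G] {k : ZMod 12} (hk : gen σ x (arc (k + 1) 5) ≤ UU σ x) {s : G}
    (hs : s ∈ gen σ x (arc k 7)) {m : ℕ} (hm : Odd m) (hsm : s ^ m = 1) :
    ∃ p ∈ gen σ x (arc k 7), p * s * p⁻¹ ∈ gen σ x {k, k + 6} := by
  obtain ⟨q, hq, l, hl, rfl⟩ := (h.mem_P k).1 hs
  have hlm : l ^ m = 1 := pow_eq_one h hq hl hsm
  set P := gen σ x (arc k 7) with hP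
  have : (((gen σ x (arc (k + 1) 5)).subgroupOf P)).Normal := by
    refine ⟨fun n hn g => ?_⟩
    rw [Subgroup.mem_subgroupOf] at hn ⊢
    exact Q_conj h g.2 hn
  have h2 : IsPGroup 2 ↥(((gen σ x (arc (k + 1) 5)).subgroupOf P)) := by
    let f : ↥(((gen σ x (arc (k + 1) 5)).subgroupOf P)) →* ↥(UU σ x) :=
      { toFun := fun y => ⟨y.1.1, hk y.2⟩
        map_one' := rfl
        map_mul' := fun _ _ => rfl }
    refine IsPGroup.of_injective h.isPGroup_U f ?_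
    intro a b e
    exact Subtype.ext (Subtype.ext (congrArg (fun y : ↥(UU σ x) => (y : G)) e))
  obtain ⟨r, hr⟩ := IsPGroup.iff_card.1 h2
  have hcop : ∀ y : ↥P, y ^ m = 1 → (Nat.card (Subgroup.zpowers y)).Coprime
      (Nat.card ↥(((gen σ x (arc (k + 1) 5)).subgroupOf P))) := by
    intro y hy
    rw [Nat.card_zpowers, hr]
    exact Nat.Coprime.pow_right r ((hm.coprime_two_right).coprime_dvd_left (orderOf_dvd_of_pow_eq_one hy))
  obtain ⟨p, hp⟩ := Cfsg.Agent.H967.CopConj.conj_le ((gen σ x (arc (k + 1) 5)).subgroupOf P)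
    (Subgroup.zpowers (⟨l, L_le k hl⟩ : ↥P)) inferInstance
    (hcop _ (Subtype.ext (by simpa using hlm))) (Subgroup.zpowers (⟨q * l, hs⟩ : ↥P))
    (hcop _ (Subtype.ext (by simpa using hsm))) (by
      rw [Subgroup.zpowers_le]
      have e : (⟨q * l, hs⟩ : ↥P) = ⟨q, Q_le k hq⟩ * ⟨l, L_le k hl⟩ := rfl
      rw [e, sup_comm]
      exact Subgroup.mul_mem_sup (Subgroup.mem_subgroupOf.2 hq) (Subgroup.mem_zpowers _))
  refine ⟨p, p.2, ?_⟩
  have h3 : p * (⟨q * l, hs⟩ : ↥P) * p⁻¹ ∈ Subgroup.zpowers (⟨l, L_le k hl⟩ : ↥P) :=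
    hp (Subgroup.smul_mem_pointwise_smul _ (MulAut.conj p) _ (Subgroup.mem_zpowers _))
  obtain ⟨n, hn⟩ := Subgroup.mem_zpowers_iff.1 h3
  have h4 := congrArg (fun y : ↥P => (y : G)) hn
  simp only [Subgroup.coe_mul, Subgroup.coe_inv, Subgroup.coe_zpow] at h4
  rw [← h4]
  exact zpow_mem hl n

/-- **`C_P(s)`, 2-elements.** `s ∈ L`, `s ≠ 1` of odd order, `u ∈ P` a 2-element commuting with `s`: `u ∈ Q`. -/
theorem mem_Q_of_comm [Finite E] {k : ZMod 12} {s u : G} (hs : s ∈ gen σ x {k, k + 6}) (hs1 : s ≠ 1) {m : ℕ}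
    (hm : Odd m) (hsm : s ^ m = 1) (hu : u ∈ gen σ x (arc k 7)) {n : ℕ} (hun : u ^ 2 ^ n = 1) (e : u * s = s * u) :
    u ∈ gen σ x (arc (k + 1) 5) := by
  obtain ⟨q, hq, l, hl, rfl⟩ := (h.mem_P k).1 hu
  have h1 := pow_eq_one h hq hl hun
  have e1 : q * (l * s) = (s * q * s⁻¹) * (s * l) := by
    calc q * (l * s) = q * l * s := by group
      _ = s * (q * l) := e
      _ = _ := by group
  have h2 := (uniq h hq (Q_conj h (L_le k hs) hq) (mul_mem hl hs) (mul_mem hs hl) e1).2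
  rw [L_eq_one h hl hs h1 hs1 hm hsm h2, mul_one]
  exact hq

end Cfsg.Agent.H168.SRHex.Levi
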