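import Cfsg.Agent.StdRank2.HexInv
import Cfsg.Agent.H168.SRHex.Levi

/-!
# The centraliser of the short root involution `x 3 1` (team SR, S4971; helper168)

`mem_P_of_comm` : `C_A(x 3 1) ≤ gen (arc 0 7)`.
-/

set_option autoImplicit false

namespace Cfsg.Agent.H168.SRHex.Cen

open Cfsg.Agent.StdRank2.Hex Cfsg.Agent.StdRank2.Hex.HexTwo Cfsg.Agent.SplitTwo

universe u v

variable {E : Type u} [Field E] {σ : E ≃+* E} {G : Type v} [Group G] {x : ZMod 12 → E → G} (h : HexTwo σ x)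
include h

theorem not_12 {b c d : E} (hb : σ b = b) (hd : σ d = d) (hc : c ≠ 0) : q x b c d 0 0 ∉ gen σ x (arc 1 2) := by
  intro hm
  have z : σ (0 : E) = 0 := map_zero σ
  obtain ⟨a, ha, v, hv, e⟩ := (h.mem_gen_first (k := 1) (n := 1) (by norm_num)).1 hm
  obtain ⟨b', hb', v', hv', e'⟩ := (h.mem_gen_first (k := 1 + 1) (n := 0) (by norm_num)).1 hv
  rw [gen_arc_zero, Subgroup.mem_bot] at hv'
  have hb2 : σ b' = b' := hb' (by decide)
  have e3 : q x b c d 0 0 = uu x a b' 0 0 0 0 := by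
    rw [e, e', hv', mul_one]
    unfold uu
    rw [h.q2]
    rfl
  rw [← h.uq] at e3
  exact hc (h.uu_inj hb hd z hb2 z z e3).2.2.1

theorem not_456 {b c d : E} (hb : σ b = b) (hd : σ d = d) (hc : c ≠ 0) : q x b c d 0 0 ∉ gen σ x (arc 4 3) := by
  intro hm
  have z : σ (0 : E) = 0 := map_zero σ
  obtain ⟨a, ha, v, hv, e⟩ := (h.mem_gen_first (k := 4) (n := 2) (by norm_num)).1 hm
  obtain ⟨b', hb', v', hv', e'⟩ := (h.mem_gen_first (k := 4 + 1) (n := 1) (by norm_num)).1 hv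
  obtain ⟨c', hc', v'', hv'', e''⟩ := (h.mem_gen_first (k := 4 + 1 + 1) (n := 0) (by norm_num)).1 hv'
  rw [gen_arc_zero, Subgroup.mem_bot] at hv''
  have ha2 : σ a = a := ha (by decide)
  have hc2 : σ c' = c' := hc' (by decide)
  have e3 : q x b c d 0 0 = q x 0 0 a b' c' := by
    rw [e, e', e'', hv'', mul_one]
    unfold q
    rw [h.x_zero, h.x_zero, one_mul, one_mul, mul_assoc]
    rfl
  exact hc (h.q_inj hb hd z z ha2 hc2 e3).2.1

/-- conjugates of elements of `X₂X₃X₄` under the Weyl group -/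
theorem weyl3 {w : G} {e c : ZMod 12} (hc : c.val % 2 = 0) (he : e = 1 ∨ e = -1)
    (hw : ∀ j a, Ok σ j a → w * x j a * w⁻¹ = x (e * j + c) a) {b d b' c' d' : E} (hb : σ b = b) (hd : σ d = d)
    (hb' : σ b' = b') (hd' : σ d' = d') (e1 : w * q x b 1 d 0 0 * w⁻¹ = q x b' c' d' 0 0) :
    (e = 1 ∧ c = 0) ∨ (e = -1 ∧ c = 6) := by
  have z : σ (0 : E) = 0 := map_zero σ
  have o : σ (1 : E) = 1 := map_one σ
  have hU : ∀ {b c d : E}, σ b = b → σ d = d → q x b c d 0 0 ∈ UU σ x := by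
    intro b c d hb hd
    rw [← h.uq]
    exact uu_mem hb hd z
  have h1 := h.mem_of_conj hc he hw (hU hb hd) (by rw [e1]; exact hU hb' hd')
  have key : ∀ e c : ZMod 12, (e = 1 ∨ e = -1) → c.val % 2 = 0 →
      (∀ k : ZMod 12, ((k - 1).val < 6 ∧ (e * k + c - 1).val < 6) → (k - 1).val < 2) ∨
      (∀ k : ZMod 12, ((k - 1).val < 6 ∧ (e * k + c - 1).val < 6) → (k - 4).val < 3) ∨
      (e = 1 ∧ c = 0) ∨ (e = -1 ∧ c = 6) ∨ (e = 1 ∧ c = 2) ∨ (e = -1 ∧ c = 8) ∨ (e = 1 ∧ c = 10) ∨ (e = -1 ∧ c = 4) := by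
    decide +kernel
  -- the conjugate
  have ok2 : Ok σ 2 b := ok_of_fix 2 hb
  have ok4 : Ok σ 4 d := ok_of_fix 4 hd
  have e2 : w * q x b 1 d 0 0 * w⁻¹ = x (e * 2 + c) b * x (e * 3 + c) 1 * x (e * 4 + c) d := by
    rw [h.q_234, ← hw 2 b ok2, ← hw 3 1 (ok3 1), ← hw 4 d ok4]; group
  rw [e1] at e2
  rcases key e c he hc with k | k | k | k | k | k | k | k
  · exact absurd (gen_mono (x := x) (σ := σ) (S := {k | k ∈ arc 1 6 ∧ e * k + c ∈ arc 1 6}) (T := arc 1 2)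
      (fun l hl => k l hl) h1) (not_12 h hb hd one_ne_zero)
  · exact absurd (gen_mono (x := x) (σ := σ) (S := {k | k ∈ arc 1 6 ∧ e * k + c ∈ arc 1 6}) (T := arc 4 3)
      (fun l hl => k l hl) h1) (not_456 h hb hd one_ne_zero)
  · exact Or.inl k
  · exact Or.inr k
  · exfalso
    obtain ⟨rfl, rfl⟩ := k
    have e3 : x ((1 : ZMod 12) * 2 + 2) b * x ((1 : ZMod 12) * 3 + 2) 1 * x ((1 : ZMod 12) * 4 + 2) d =
        q x 0 0 b 1 d := by
      have i1 : (1 : ZMod 12) * 2 + 2 = 4 := by decide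
      have i2 : (1 : ZMod 12) * 3 + 2 = 5 := by decide
      have i3 : (1 : ZMod 12) * 4 + 2 = 6 := by decide
      unfold q
      rw [i1, i2, i3, h.x_zero, h.x_zero, one_mul, one_mul]
    rw [e3] at e2
    exact one_ne_zero (h.q_inj hb' hd' z z hb hd e2).2.2.2.1.symm
  · exfalso
    obtain ⟨rfl, rfl⟩ := k
    have e3 : x ((-1 : ZMod 12) * 2 + 8) b * x ((-1 : ZMod 12) * 3 + 8) 1 * x ((-1 : ZMod 12) * 4 + 8) d =
        q x 0 0 d 1 b := by
      have i1 : (-1 : ZMod 12) * 2 + 8 = 6 := by decide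
      have i2 : (-1 : ZMod 12) * 3 + 8 = 5 := by decide
      have i3 : (-1 : ZMod 12) * 4 + 8 = 4 := by decide
      unfold q
      rw [h.x_zero, h.x_zero, one_mul, one_mul, i1, i2, i3, ← h.s56 1 hb, mul_assoc, ← h.s46 hd hb, ← mul_assoc,
        ← h.s45 hd 1]
    rw [e3] at e2
    exact one_ne_zero (h.q_inj hb' hd' z z hd hb e2).2.2.2.1.symm
  · exfalso
    obtain ⟨rfl, rfl⟩ := k
    have i1 : (1 : ZMod 12) * 2 + 10 = 0 := by decide
    have i2 : (1 : ZMod 12) * 3 + 10 = 1 := by decide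
    have i3 : (1 : ZMod 12) * 4 + 10 = 2 := by decide
    rw [i1, i2, i3, h.q_234] at e2
    have m : x 2 b' * x 3 c' * x 4 d' ∈ gen σ x (arc (0 + 1) 5) := by
      refine mul_mem (mul_mem ?_ ?_) ?_
      · exact x_mem_gen (by rw [mem_arc]; decide) (ok_of_fix _ hb')
      · exact x_mem_gen (by rw [mem_arc]; decide) (ok3 _)
      · exact x_mem_gen (by rw [mem_arc]; decide) (ok_of_fix _ hd')
    have m' : x 1 1 * x 2 d ∈ gen σ x (arc (0 + 1) 5) := by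
      refine mul_mem ?_ ?_
      · exact x_mem_gen (by rw [mem_arc]; decide) (ok1 _)
      · exact x_mem_gen (by rw [mem_arc]; decide) (ok_of_fix _ hd)
    have e4 : x 0 0 * (x 2 b' * x 3 c' * x 4 d') = x 0 b * (x 1 1 * x 2 d) := by
      rw [h.x_zero, one_mul, e2, mul_assoc]
    have e5 := (h.uniq_first (k := 0) (n := 5) (by norm_num) (ok_zero σ 0) (ok_of_fix 0 hb) m m' e4).2
    have e6 : uu x 0 b' c' d' 0 0 = uu x 1 d 0 0 0 0 := by
      rw [h.uq, h.q_234, e5]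
      unfold uu
      rw [h.q2]
    exact one_ne_zero (h.uu_inj hb' hd' z hd z z e6).1.symm
  · exfalso
    obtain ⟨rfl, rfl⟩ := k
    have i1 : (-1 : ZMod 12) * 2 + 4 = 2 := by decide
    have i2 : (-1 : ZMod 12) * 3 + 4 = 1 := by decide
    have i3 : (-1 : ZMod 12) * 4 + 4 = 0 := by decide
    rw [i1, i2, i3, h.q_234] at e2
    have m : x 2 b' * x 3 c' * x 4 d' ∈ gen σ x (arc (0 + 1) 5) := by
      refine mul_mem (mul_mem ?_ ?_) ?_
      · exact x_mem_gen (by rw [mem_arc]; decide) (ok_of_fix _ hb')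
      · exact x_mem_gen (by rw [mem_arc]; decide) (ok3 _)
      · exact x_mem_gen (by rw [mem_arc]; decide) (ok_of_fix _ hd')
    have m' : x 1 1 * x 2 b ∈ gen σ x (arc (0 + 1) 5) := by
      refine mul_mem ?_ ?_
      · exact x_mem_gen (by rw [mem_arc]; decide) (ok1 _)
      · exact x_mem_gen (by rw [mem_arc]; decide) (ok_of_fix _ hb)
    have c01 : x 0 d * x 1 1 = x 1 1 * x 0 d := swap (h.commL1 (k := 0) (by decide) hd 1)
    have c02 : x 0 d * x 2 b = x 2 b * x 0 d := swap (h.commL2 (k := 0) (by decide) hd hb)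
    have e4 : x 0 0 * (x 2 b' * x 3 c' * x 4 d') = x 0 d * (x 1 1 * x 2 b) := by
      rw [h.x_zero, one_mul, e2, ← h.s12 1 hb, mul_assoc, ← c02, ← mul_assoc, ← c01, mul_assoc]
    have e5 := (h.uniq_first (k := 0) (n := 5) (by norm_num) (ok_zero σ 0) (ok_of_fix 0 hd) m m' e4).2
    have e6 : uu x 0 b' c' d' 0 0 = uu x 1 b 0 0 0 0 := by
      rw [h.uq, h.q_234, e5]
      unfold uu
      rw [h.q2]
    exact one_ne_zero (h.uu_inj hb' hd' z hb z z e6).1.symm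

/-- **The centraliser of `x 3 1` in `A` lies in `gen (arc 0 7)`.** -/
theorem mem_P_of_comm [Finite E] {g : G} (hg : g ∈ AA σ x) (e0 : g * x 3 1 * g⁻¹ = x 3 1) :
    g ∈ gen σ x (arc 0 7) := by
  have z : σ (0 : E) = 0 := map_zero σ
  have o : σ (1 : E) = 1 := map_one σ
  obtain ⟨u, hu, s, hs, w, hw, u', hu', rfl⟩ := h.bruhat hg
  -- `u' x₃(1) u'⁻¹`
  have form : ∀ v ∈ UU σ x, ∃ t1 t2, σ t1 = t1 ∧ σ t2 = t2 ∧ v * x 3 1 * v⁻¹ = q x t1 1 t2 0 0 := by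
    intro v hv
    obtain ⟨a, b, c', d, e, f, hb, hd, hf, rfl⟩ := h.mem_UU.1 hv
    have k1 := h.uu_x3 (a := a) (c := c') (e := e) hb hd hf 1
    exact ⟨_, _, h.fix_trc a 1, h.fix_trc 1 e, by rw [k1, mul_inv_cancel_right]⟩
  obtain ⟨t1, t2, ht1, ht2, e1⟩ := form u' hu'
  obtain ⟨r1, r2, hr1, hr2, e2⟩ := form u⁻¹ (inv_mem hu)
  rw [inv_inv] at e2
  obtain ⟨c2, hc2, ok2, act2⟩ := h.H_diag (inv_mem hs) 2
  obtain ⟨c3, hc3, ok3', act3⟩ := h.H_diag (inv_mem hs) 3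
  obtain ⟨c4, hc4, ok4, act4⟩ := h.H_diag (inv_mem hs) 4
  have e3 : w * q x t1 1 t2 0 0 * w⁻¹ = q x (c2 * r1) c3 (c4 * r2) 0 0 := by
    have e4 : s⁻¹ * q x r1 1 r2 0 0 * s⁻¹⁻¹ = q x (c2 * r1) c3 (c4 * r2) 0 0 := by
      rw [h.q_234, h.q_234, ← act2 r1 (ok_of_fix 2 hr1), ← act4 r2 (ok_of_fix 4 hr2)]
      have := act3 1 (ok3 1)
      rw [mul_one] at this
      rw [← this]; group
    rw [← e4, ← e1, ← e2]
    calc w * (u' * x 3 1 * u'⁻¹) * w⁻¹ =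
        s⁻¹ * (u⁻¹ * ((u * s * w * u') * x 3 1 * (u * s * w * u')⁻¹) * u) * s⁻¹⁻¹ := by group
      _ = _ := by rw [e0]
  have f2 : σ (c2 * r1) = c2 * r1 := by rw [map_mul, ok2 (by decide), hr1]
  have f4 : σ (c4 * r2) = c4 * r2 := by rw [map_mul, ok4 (by decide), hr2]
  obtain ⟨ε, c, hε, hc, hact⟩ := h.isW_act hw
  have hwc := weyl3 h hc hε hact ht1 ht2 f2 f4 e3
  have hUP : UU σ x ≤ gen σ x (arc 0 7) := gen_mono (by
    intro l hl
    rw [mem_arc] at hl ⊢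
    have : ∀ l : ZMod 12, (l - 1).val < 6 → (l - 0).val < 7 := by decide
    exact this l hl)
  have m0 : (0 : ZMod 12) ∈ arc 0 7 := by rw [mem_arc]; decide
  have m6 : (6 : ZMod 12) ∈ arc 0 7 := by rw [mem_arc]; decide
  -- `w ∈ P` and the coordinate at 3
  have hwP : w ∈ gen σ x (arc 0 7) ∧ c3 = 1 := by
    rcases hwc with ⟨rfl, rfl⟩ | ⟨rfl, rfl⟩
    · have hw1 := (h.isW_faithful hw (f := fun j => 1 * j + 0) hact).1 (by funext j; simp)
      subst hw1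
      refine ⟨one_mem _, ?_⟩
      rw [one_mul, inv_one, mul_one] at e3
      exact (h.q_inj ht1 ht2 z f2 f4 z e3).2.1.symm
    · have hw1 := (h.isW_faithful hw (f := fun j => -1 * j + 6) hact).2 6 (by
        funext j
        have : ∀ j : ZMod 12, -1 * j + 6 = 2 * 6 + 6 - j := by decide
        exact this j)
      subst hw1
      refine ⟨nn_mem_gen m6 (by
        have e6 : (6 : ZMod 12) + 6 = 0 := by decide
        rw [e6]; exact m0), ?_⟩
      have e5 : nn x 6 * q x t1 1 t2 0 0 * (nn x 6)⁻¹ = q x t2 1 t1 0 0 := by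
        rw [h.q_234, h.q_234]
        have a2 := h.refl6 2 t1 (ok_of_fix 2 ht1)
        have a3 := h.refl6 3 1 (ok3 1)
        have a4 := h.refl6 4 t2 (ok_of_fix 4 ht2)
        have i2 : (6 : ZMod 12) - 2 = 4 := by decide
        have i3 : (6 : ZMod 12) - 3 = 3 := by decide
        have i4 : (6 : ZMod 12) - 4 = 2 := by decide
        rw [i2] at a2
        rw [i3] at a3
        rw [i4] at a4
        calc nn x 6 * (x 2 t1 * x 3 1 * x 4 t2) * (nn x 6)⁻¹ =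
            (nn x 6 * x 2 t1 * (nn x 6)⁻¹) * (nn x 6 * x 3 1 * (nn x 6)⁻¹) * (nn x 6 * x 4 t2 * (nn x 6)⁻¹) := by group
          _ = x 4 t1 * x 3 1 * x 2 t2 := by rw [a2, a3, a4]
          _ = x 2 t2 * x 3 1 * x 4 t1 := by
            rw [← h.s34 1 ht1, mul_assoc, ← h.s24 ht2 ht1, ← mul_assoc, ← h.s23 ht2 1]
      rw [e5] at e3
      exact (h.q_inj ht2 ht1 z f2 f4 z e3).2.1.symm
  obtain ⟨hwP, hc31⟩ := hwP
  -- the torus part
  have hsP : s ∈ gen σ x (arc 0 7) := by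
    obtain ⟨s1, t, hs1, ht, ht', rfl⟩ := h.mem_H.1 hs
    have a3 := h.H_act hs1 ht ht' (ok3 1)
    have b3 := act3 1 (ok3 1)
    rw [hc31, one_mul] at b3
    have e6 : hh x 1 s1 * hh x 6 t * x 3 1 * (hh x 1 s1 * hh x 6 t)⁻¹ = x 3 1 := by
      calc hh x 1 s1 * hh x 6 t * x 3 1 * (hh x 1 s1 * hh x 6 t)⁻¹ =
          hh x 1 s1 * hh x 6 t * ((hh x 1 s1 * hh x 6 t)⁻¹ * x 3 1 * (hh x 1 s1 * hh x 6 t)⁻¹⁻¹) *
            (hh x 1 s1 * hh x 6 t)⁻¹ := by rw [b3]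
        _ = x 3 1 := by group
    rw [a3, h.x_inj (ok3 _) (ok3 _)] at e6
    have i2 : (3 : ZMod 12) - 1 = 2 := by decide
    have i9 : (3 : ZMod 12) - 6 = 9 := by decide
    rw [i2, i9] at e6
    have ch1 : ch σ 1 2 s1 = s1⁻¹ * shp σ s1 := rfl
    have ch6 : ch σ 6 9 t = 1 := rfl
    rw [ch1, ch6, mul_one, mul_one] at e6
    have e7 : shp σ s1 = s1 := by
      rw [inv_mul_eq_iff_eq_mul₀ hs1, mul_one] at e6
      exact e6
    rw [h.eq_one_of_shp hs1 e7, h.hh_one, one_mul]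
    exact hh_mem_gen m6 (by
      have e6 : (6 : ZMod 12) + 6 = 0 := by decide
      rw [e6]; exact m0) (ok_of_fix _ ht')
  exact mul_mem (mul_mem (mul_mem (hUP hu) hsP) hwP) (hUP hu')

end Cfsg.Agent.H168.SRHex.Cen
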