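import Cfsg.Agent.H168.SRHex.Levi

/-!
# The action of `L₂ = gen {0, 6}` on `Q₂ = gen (arc 1 5)` (team SR, S4971; helper168)

`mem_X3` : an element of `Q₂` commuting with an element `s ∈ L₂` with `s * s ≠ 1` lies in `X₃`.
-/

set_option autoImplicit false

namespace Cfsg.Agent.H168.SRHex.LTwo

open Cfsg.Agent.StdRank2.Hex Cfsg.Agent.StdRank2.Hex.HexTwo Cfsg.Agent.SplitTwo
open Cfsg.Agent.SuzukiRankOne.SLTwoRel
open Matrix (SpecialLinearGroup)

universe u v

variable {E : Type u} [Field E] {σ : E ≃+* E} {G : Type v} [Group G] {x : ZMod 12 → E → G}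

/-- elements of `Q₂` with given coordinates at 1 and 5 -/
def In (σ : E ≃+* E) (x : ZMod 12 → E → G) (a e : E) (g : G) : Prop :=
  ∃ b c d, σ b = b ∧ σ d = d ∧ g = uu x a b c d e 0

variable (h : HexTwo σ x)
include h

theorem In.mul {a e a' e' : E} {g g' : G} (hg : In σ x a e g) (hg' : In σ x a' e' g') :
    In σ x (a + a') (e + e') (g * g') := by
  obtain ⟨b, c, d, hb, hd, rfl⟩ := hg
  obtain ⟨b', c', d', hb', hd', rfl⟩ := hg'
  have z : σ (0 : E) = 0 := map_zero σ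
  have m1 := h.uu_mul (a := a) (c := c) (e := e) (a' := a') (c' := c') (e' := e') hb hd z hb' hd' z
  have e5 : e + 0 * a' + e' = e + e' := by ring
  have e6 : (0 : E) + 0 = 0 := add_zero 0
  rw [e5, e6] at m1
  refine ⟨_, _, _, ?_, ?_, m1⟩
  · simp only [map_add, map_mul, hb, hb', h.fix_trc, h.fix_nrm, z]
  · simp only [map_add, map_mul, map_pow, hd, hd', hb', h.fix_trc, h.fix_nrm, z]

theorem in1 (a : E) : In σ x a 0 (x 1 a) := by
  have z : σ (0 : E) = 0 := map_zero σ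
  refine ⟨0, 0, 0, z, z, ?_⟩
  rw [h.u1]

theorem in2 {b : E} (hb : σ b = b) : In σ x 0 0 (x 2 b) :=
  ⟨b, 0, 0, hb, map_zero σ, by rw [h.uq, h.q2]⟩

theorem in3 (c : E) : In σ x 0 0 (x 3 c) :=
  ⟨0, c, 0, map_zero σ, map_zero σ, by rw [h.uq, h.q3]⟩

theorem in4 {d : E} (hd : σ d = d) : In σ x 0 0 (x 4 d) :=
  ⟨0, 0, d, map_zero σ, hd, by rw [h.uq, h.q4]⟩

theorem in5 (e : E) : In σ x 0 e (x 5 e) :=
  ⟨0, 0, 0, map_zero σ, map_zero σ, by rw [h.uq, h.q5]⟩

omit h in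
theorem in_congr {a e a' e' : E} {g : G} (hg : In σ x a e g) (ha : a = a') (he : e = e') : In σ x a' e' g := by
  subst ha he; exact hg

theorem in_uniq {a e a' e' : E} {g : G} (hg : In σ x a e g) (hg' : In σ x a' e' g) : a = a' ∧ e = e' := by
  obtain ⟨b, c, d, hb, hd, rfl⟩ := hg
  obtain ⟨b', c', d', hb', hd', e1⟩ := hg'
  have z : σ (0 : E) = 0 := map_zero σ
  have := h.uu_inj hb hd z hb' hd' z e1
  exact ⟨this.1, this.2.2.2.2.1⟩

/-- the elements as products -/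
theorem uu_prod (a b c d e : E) : uu x a b c d e 0 = x 1 a * (x 2 b * x 3 c * x 4 d * x 5 e) := by
  unfold uu q
  rw [h.x_zero, mul_one]

/-- linear action: `y` acts on the coordinates by the matrix `(m, n; r, s)` -/
def Act (σ : E ≃+* E) (x : ZMod 12 → E → G) (m n r s : E) (y : G) : Prop :=
  (∀ a e g, In σ x a e g → In σ x (m * a + n * e) (r * a + s * e) (y * g * y⁻¹)) ∧
  (∀ b d, σ b = b → σ d = d → y * (x 2 b * x 4 d) * y⁻¹ = x 2 (m * b + n * d) * x 4 (r * b + s * d))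

omit h in
theorem Act.mul {m n r s m' n' r' s' : E} {y y' : G} (hy : Act σ x m n r s y) (hy' : Act σ x m' n' r' s' y')
    (f : σ m' = m' ∧ σ n' = n' ∧ σ r' = r' ∧ σ s' = s') :
    Act σ x (m * m' + n * r') (m * n' + n * s') (r * m' + s * r') (r * n' + s * s') (y * y') := by
  constructor
  · intro a e g hg
    have h1 := hy.1 _ _ _ (hy'.1 _ _ _ hg)
    have e1 : y * (y' * g * y'⁻¹) * y⁻¹ = y * y' * g * (y * y')⁻¹ := by group
    rw [e1] at h1
    exact in_congr h1 (by ring) (by ring)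
  · intro b d hb hd
    have h1 := hy'.2 b d hb hd
    have h2 := hy.2 (m' * b + n' * d) (r' * b + s' * d) (by rw [map_add, map_mul, map_mul, f.1, f.2.1, hb, hd])
      (by rw [map_add, map_mul, map_mul, f.2.2.1, f.2.2.2, hb, hd])
    rw [← h1] at h2
    have e1 : y * (y' * (x 2 b * x 4 d) * y'⁻¹) * y⁻¹ = y * y' * (x 2 b * x 4 d) * (y * y')⁻¹ := by group
    rw [e1] at h2
    rw [h2]
    congr 2 <;> ring

omit h in
theorem act_one : Act σ x 1 0 0 1 (1 : G) := by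
  constructor
  · intro a e g hg
    have e1 : (1 : G) * g * 1⁻¹ = g := by group
    rw [e1]
    exact in_congr hg (by ring) (by ring)
  · intro b d _ _
    rw [one_mul, inv_one, mul_one, one_mul, zero_mul, add_zero, zero_mul, zero_add, one_mul]

/-- the reflection -/
theorem act_nn : Act σ x 0 1 1 0 (nn x 6) := by
  have i1 : (6 : ZMod 12) - 1 = 5 := by decide
  have i2 : (6 : ZMod 12) - 2 = 4 := by decide
  have i3 : (6 : ZMod 12) - 3 = 3 := by decide
  have i4 : (6 : ZMod 12) - 4 = 2 := by decide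
  have i5 : (6 : ZMod 12) - 5 = 1 := by decide
  constructor
  · rintro a e g ⟨b, c, d, hb, hd, rfl⟩
    have a1 := h.refl6 1 a (ok1 a)
    have a2 := h.refl6 2 b (ok_of_fix 2 hb)
    have a3 := h.refl6 3 c (ok3 c)
    have a4 := h.refl6 4 d (ok_of_fix 4 hd)
    have a5 := h.refl6 5 e (ok5 e)
    rw [i1] at a1
    rw [i2] at a2
    rw [i3] at a3
    rw [i4] at a4
    rw [i5] at a5
    have e1 : nn x 6 * uu x a b c d e 0 * (nn x 6)⁻¹ = x 5 a * (x 4 b * x 3 c * x 2 d * x 1 e) := by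
      rw [uu_prod h]
      calc nn x 6 * (x 1 a * (x 2 b * x 3 c * x 4 d * x 5 e)) * (nn x 6)⁻¹ = (nn x 6 * x 1 a * (nn x 6)⁻¹) *
          ((nn x 6 * x 2 b * (nn x 6)⁻¹) * (nn x 6 * x 3 c * (nn x 6)⁻¹) * (nn x 6 * x 4 d * (nn x 6)⁻¹) *
            (nn x 6 * x 5 e * (nn x 6)⁻¹)) := by group
        _ = _ := by rw [a1, a2, a3, a4, a5]
    rw [e1]
    have h1 := In.mul h (in5 h a) (In.mul h (In.mul h (In.mul h (in4 h hb) (in3 h c)) (in2 h hd)) (in1 h e))
    exact in_congr h1 (by ring) (by ring)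
  · intro b d hb hd
    have a2 := h.refl6 2 b (ok_of_fix 2 hb)
    have a4 := h.refl6 4 d (ok_of_fix 4 hd)
    rw [i2] at a2
    rw [i4] at a4
    have e1 : nn x 6 * (x 2 b * x 4 d) * (nn x 6)⁻¹ = x 4 b * x 2 d := by rw [← a2, ← a4]; group
    rw [e1, zero_mul, zero_add, one_mul, one_mul, zero_mul, add_zero, h.s24 hd hb]

/-- the lower root elements -/
theorem act_x6 {t : E} (ht : σ t = t) : Act σ x 1 0 t 1 (x 6 t) := by
  have cj : ∀ {y z : G}, y * z = z * y → y * z * y⁻¹ = z := fun e => by rw [e, mul_inv_cancel_right]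
  constructor
  · rintro a e g ⟨b, c, d, hb, hd, rfl⟩
    have a1 : In σ x a (t * a) (x 6 t * x 1 a * (x 6 t)⁻¹) := by
      have m1 := h.uu_mul (a := 0) (b := 0) (c := 0) (d := 0) (e := 0) (a' := a) (b' := 0) (c' := 0) (d' := 0)
        (e' := 0) (f' := 0) (map_zero σ) (map_zero σ) ht (map_zero σ) (map_zero σ) (map_zero σ)
      rw [h.uq, h.q6, h.u1, add_zero t] at m1
      have hB : σ (0 + trc σ a 0 + trc σ (shp σ a) 0 + t * nrm σ a + 0) =
          0 + trc σ a 0 + trc σ (shp σ a) 0 + t * nrm σ a + 0 := by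
        simp only [map_add, map_mul, h.fix_trc, ht, h.fix_nrm, map_zero]
      have hD : σ (0 + trc σ a (shp σ 0) + t ^ 2 * nrm σ a + t * trc σ (shp σ a) 0 + 0 + 0 * t +
          trc σ 0 (0 + t * a)) = 0 + trc σ a (shp σ 0) + t ^ 2 * nrm σ a + t * trc σ (shp σ a) 0 + 0 + 0 * t +
          trc σ 0 (0 + t * a) := by
        simp only [map_add, map_mul, map_pow, h.fix_trc, ht, h.fix_nrm, map_zero]
      generalize 0 + trc σ a 0 + trc σ (shp σ a) 0 + t * nrm σ a + 0 = B at m1 hB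
      generalize 0 + trc σ a (shp σ 0) + t ^ 2 * nrm σ a + t * trc σ (shp σ a) 0 + 0 + 0 * t +
          trc σ 0 (0 + t * a) = D at m1 hD
      generalize 0 + crs σ a 0 + t * shp σ a + 0 = C at m1
      refine ⟨B, C, D, hB, hD, ?_⟩
      rw [m1, mul_inv_eq_iff_eq_mul]
      unfold uu q
      rw [h.x_zero, mul_one, zero_add a, zero_add (t * a), add_zero (t * a)]
      group
    have a2 : In σ x 0 0 (x 6 t * x 2 b * (x 6 t)⁻¹) := by
      have e1 : x 6 t * x 2 b * (x 6 t)⁻¹ = x 4 (b * t) * x 2 b := by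
        have := h.c26 hb ht
        have e2 : x 6 t * x 2 b = x 4 (b * t) * (x 2 b * x 6 t) := by
          rw [this, ← mul_assoc, ← mul_assoc, h.x_sq (ok_of_fix 4 (by rw [map_mul, hb, ht])), one_mul]
        rw [e2, ← mul_assoc, mul_inv_cancel_right]
      rw [e1]
      exact in_congr (In.mul h (in4 h (by rw [map_mul, hb, ht])) (in2 h hb)) (by ring) (by ring)
    have a3 : x 6 t * x 3 c * (x 6 t)⁻¹ = x 3 c := cj (h.s36 c ht).symm
    have a4 : x 6 t * x 4 d * (x 6 t)⁻¹ = x 4 d := cj (h.s46 hd ht).symm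
    have a5 : x 6 t * x 5 e * (x 6 t)⁻¹ = x 5 e := cj (h.s56 e ht).symm
    have e1 : x 6 t * uu x a b c d e 0 * (x 6 t)⁻¹ = (x 6 t * x 1 a * (x 6 t)⁻¹) *
        ((x 6 t * x 2 b * (x 6 t)⁻¹) * (x 6 t * x 3 c * (x 6 t)⁻¹) * (x 6 t * x 4 d * (x 6 t)⁻¹) *
          (x 6 t * x 5 e * (x 6 t)⁻¹)) := by
      rw [uu_prod h]; group
    rw [e1, a3, a4, a5]
    exact in_congr (In.mul h a1 (In.mul h (In.mul h (In.mul h a2 (in3 h c)) (in4 h hd)) (in5 h e))) (by ring) (by ring)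
  · intro b d hb hd
    have hbt : σ (b * t) = b * t := by rw [map_mul, hb, ht]
    have e2 : x 6 t * x 2 b = x 4 (b * t) * (x 2 b * x 6 t) := by
      rw [h.c26 hb ht, ← mul_assoc, ← mul_assoc, h.x_sq (ok_of_fix 4 hbt), one_mul]
    have e3 : x 6 t * x 4 d = x 4 d * x 6 t := (h.s46 hd ht).symm
    have e4 : x 6 t * (x 2 b * x 4 d) * (x 6 t)⁻¹ = x 4 (b * t) * x 2 b * x 4 d := by
      calc x 6 t * (x 2 b * x 4 d) * (x 6 t)⁻¹ = (x 6 t * x 2 b) * x 4 d * (x 6 t)⁻¹ := by group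
        _ = x 4 (b * t) * x 2 b * (x 6 t * x 4 d) * (x 6 t)⁻¹ := by rw [e2]; group
        _ = _ := by rw [e3]; group
    rw [e4, ← h.s24 hb hbt, mul_assoc, ← h.add 4 _ _ (ok_of_fix 4 hbt) (ok_of_fix 4 hd), one_mul, zero_mul,
      add_zero, one_mul, mul_comm b t]

/-- **An element of `Q₂` commuting with `s ∈ L₂`, `s * s ≠ 1`, lies in `X₃`.** -/
theorem mem_X3 [Finite E] {s u : G} (hs : s ∈ gen σ x {(0 : ZMod 12), 0 + 6}) (hs1 : s * s ≠ 1)
    (hu : u ∈ gen σ x (arc (0 + 1) 5)) (e0 : s * u = u * s) : ∃ c, u = x 3 c := by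
  obtain ⟨K, _, _, ι, θ, hP, hi, h1, h2, h3, hr⟩ := Levi.exists_theta h 0
  have e06 : (0 : ZMod 12) + 6 = 6 := by decide
  have fixι : ∀ a, σ (ι a) = ι a := fun a => hP.ok a (by decide)
  have nn06 : nn x 0 = nn x 6 := by
    have := h.nn_opp 0
    rw [e06] at this
    exact this.symm
  -- the action of `SL₂(K)`
  let R : SpecialLinearGroup (Fin 2) K → Prop := fun M =>
    Act σ x (ι (mat M 0 0)) (ι (mat M 0 1)) (ι (mat M 1 0)) (ι (mat M 1 1)) (θ M)
  have Rmul : ∀ M N, R M → R N → R (M * N) := by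
    intro M N hM hN
    have := Act.mul hM hN ⟨fixι _, fixι _, fixι _, fixι _⟩
    have e1 : mat (M * N) = mat M * mat N := rfl
    show Act σ x (ι (mat (M * N) 0 0)) (ι (mat (M * N) 0 1)) (ι (mat (M * N) 1 0)) (ι (mat (M * N) 1 1)) (θ (M * N))
    rw [map_mul, e1]
    simp only [Matrix.mul_apply, Fin.sum_univ_two, map_add, map_mul]
    exact this
  have RT : R (Tm K) := by
    have := act_nn h
    show Act σ x (ι (mat (Tm K) 0 0)) (ι (mat (Tm K) 0 1)) (ι (mat (Tm K) 1 0)) (ι (mat (Tm K) 1 1)) (θ (Tm K))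
    rw [h2, nn06, Tm_mat]
    simpa using this
  have RL : ∀ a, R (loU a) := by
    intro a
    have hm : mat (loU a) = !![1, 0; a, 1] := by
      unfold loU
      rw [mat_mul, mat_mul, Tm_mat, U_mat, Matrix.mul_fin_two, Matrix.mul_fin_two]
      simp
    show Act σ x (ι (mat (loU a) 0 0)) (ι (mat (loU a) 0 1)) (ι (mat (loU a) 1 0)) (ι (mat (loU a) 1 1)) (θ (loU a))
    rw [h3, hm, e06]
    simpa using act_x6 h (fixι a)
  have RU : ∀ a, R (U a) := by
    intro a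
    have e1 : U a = Tm K * loU a * Tm K := by
      have t2 : Tm K * Tm K = 1 := rel_model.tt
      unfold loU
      calc U a = (Tm K * Tm K) * U a * (Tm K * Tm K) := by rw [t2]; group
        _ = _ := by group
    rw [e1]
    exact Rmul _ _ (Rmul _ _ RT (RL a)) RT
  have RD : ∀ c : Kˣ, R (Dg c) := by
    intro c
    have e1 : Dg c = U (c : K) * loU ((c⁻¹ : Kˣ) : K) * U (c : K) * Tm K := by
      have hm : mat (loU ((c⁻¹ : Kˣ) : K)) = !![1, 0; ((c⁻¹ : Kˣ) : K), 1] := by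
        unfold loU
        rw [mat_mul, mat_mul, Tm_mat, U_mat, Matrix.mul_fin_two, Matrix.mul_fin_two]
        simp
      have two : (1 : K) + 1 = 0 := CharTwo.add_self_eq_zero 1
      have cc : (c : K) * ((c⁻¹ : Kˣ) : K) = 1 := by rw [← Units.val_mul, mul_inv_cancel, Units.val_one]
      have cc' : ((c⁻¹ : Kˣ) : K) * (c : K) = 1 := by rw [mul_comm, cc]
      apply mat_ext
      rw [mat_mul, mat_mul, mat_mul, hm, Dg_mat, U_mat, Tm_mat, Matrix.mul_fin_two, Matrix.mul_fin_two,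
        Matrix.mul_fin_two]
      have k1 : ((1 * 1 + (c : K) * ((c⁻¹ : Kˣ) : K)) * 1 + (1 * 0 + (c : K) * 1) * 0) * 0 +
          ((1 * 1 + (c : K) * ((c⁻¹ : Kˣ) : K)) * (c : K) + (1 * 0 + (c : K) * 1) * 1) * 1 = (c : K) := by
        rw [cc]; linear_combination (c : K) * two
      have k2 : ((1 * 1 + (c : K) * ((c⁻¹ : Kˣ) : K)) * 1 + (1 * 0 + (c : K) * 1) * 0) * 1 +
          ((1 * 1 + (c : K) * ((c⁻¹ : Kˣ) : K)) * (c : K) + (1 * 0 + (c : K) * 1) * 1) * 0 = 0 := by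
        rw [cc]; linear_combination two
      have k3 : ((0 * 1 + 1 * ((c⁻¹ : Kˣ) : K)) * 1 + (0 * 0 + 1 * 1) * 0) * 0 +
          ((0 * 1 + 1 * ((c⁻¹ : Kˣ) : K)) * (c : K) + (0 * 0 + 1 * 1) * 1) * 1 = (0 : K) := by
        linear_combination cc' + two
      have k4 : ((0 * 1 + 1 * ((c⁻¹ : Kˣ) : K)) * 1 + (0 * 0 + 1 * 1) * 0) * 1 +
          ((0 * 1 + 1 * ((c⁻¹ : Kˣ) : K)) * (c : K) + (0 * 0 + 1 * 1) * 1) * 0 = ((c⁻¹ : Kˣ) : K) := by
        ring
      rw [k1, k2, k3, k4]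
    rw [e1]
    exact Rmul _ _ (Rmul _ _ (Rmul _ _ (RU _) (RL _)) (RU _)) RT
  have Rall : ∀ M, R M := by
    intro M
    rcases exists_form M with ⟨a, c, rfl⟩ | ⟨a, c, b, rfl⟩
    · exact Rmul _ _ (RU _) (RD _)
    · exact Rmul _ _ (Rmul _ _ (Rmul _ _ (RU _) (RD _)) RT) (RU _)
  -- the element
  rw [← hr] at hs
  obtain ⟨M, rfl⟩ := hs
  have hM := Rall M
  obtain ⟨m, n, r, s, hdet, rfl⟩ := exists_mk M
  have hA : Act σ x (ι m) (ι n) (ι r) (ι s) (θ (mk m n r s hdet)) := hM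
  have htr : m + s ≠ 0 := by
    intro h0
    apply hs1
    rw [← map_mul, (SLTwo.sq_iff hdet).2 h0, map_one]
  have hdet' := SLTwo.det_add hdet
  have two : (2 : E) = 0 := h.two
  have htr' : ι m + ι s ≠ 0 := by
    rw [← map_add]
    exact fun h0 => htr ((map_eq_zero ι).1 h0)
  have hdet2 : ι m * ι s + ι n * ι r = 1 := by rw [← map_mul, ← map_mul, ← map_add, hdet', map_one]
  have zero_of : ∀ a e : E, ι m * a + ι n * e = a → ι r * a + ι s * e = e → a = 0 ∧ e = 0 := by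
    intro a e k1 k2
    have j1 : (ι m + ι s) * a = 0 := by
      linear_combination -(ι s - 1) * k1 + ι n * k2 + a * hdet2 + (a - ι n * ι r * a) * two
    have j2 : (ι m + ι s) * e = 0 := by
      linear_combination -(ι m - 1) * k2 + ι r * k1 + e * hdet2 + (e - ι n * ι r * e) * two
    exact ⟨(mul_eq_zero.1 j1).resolve_left htr', (mul_eq_zero.1 j2).resolve_left htr'⟩
  have e01 : (0 : ZMod 12) + 1 = 1 := by decide
  rw [e01] at hu
  obtain ⟨a, b, c, d, e, hb, hd, rfl⟩ := h.mem_Q2.1 hu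
  have hc := hA.1 a e _ ⟨b, c, d, hb, hd, rfl⟩
  rw [e0, mul_inv_cancel_right] at hc
  obtain ⟨k1, k2⟩ := in_uniq h hc ⟨b, c, d, hb, hd, rfl⟩
  obtain ⟨rfl, rfl⟩ := zero_of a e k1 k2
  -- the coordinates at 2, 4
  have e5 : uu x 0 b c d 0 0 = x 3 c * (x 2 b * x 4 d) := by
    rw [h.uq, h.q_234, h.s23 hb c, mul_assoc]
  have c3 : θ (mk m n r s hdet) * x 3 c = x 3 c * θ (mk m n r s hdet) := by
    have hmem : θ (mk m n r s hdet) ∈ gen σ x {(0 : ZMod 12), 0 + 6} := by rw [← hr]; exact ⟨_, rfl⟩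
    have : ∀ y ∈ gen σ x {(0 : ZMod 12), 0 + 6}, Commute y (x 3 c) := by
      intro y hy
      unfold gen at hy
      induction hy using Subgroup.closure_induction with
      | mem y hy =>
        obtain ⟨k, hk, t, ht, rfl⟩ := hy
        rcases hk with rfl | hk
        · exact swap (h.commL3 (k := 0) (by decide) (ht (by decide)) c)
        · rw [Set.mem_singleton_iff, e06] at hk
          subst hk
          exact (h.s36 c (ht (by decide))).symm
      | one => exact Commute.one_left _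
      | mul y z _ _ h1 h2 => exact h1.mul_left h2
      | inv y _ h1 => exact h1.inv_left
    exact this _ hmem
  have hc2 := hA.2 b d hb hd
  have e6 : θ (mk m n r s hdet) * (x 2 b * x 4 d) = (x 2 b * x 4 d) * θ (mk m n r s hdet) := by
    rw [e5] at e0
    have : x 3 c * (θ (mk m n r s hdet) * (x 2 b * x 4 d)) = x 3 c * ((x 2 b * x 4 d) * θ (mk m n r s hdet)) := by
      rw [← mul_assoc, ← c3, mul_assoc, e0, mul_assoc]
    exact mul_left_cancel this
  rw [e6, mul_inv_cancel_right] at hc2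
  have f2 : σ (ι m * b + ι n * d) = ι m * b + ι n * d := by rw [map_add, map_mul, map_mul, fixι, fixι, hb, hd]
  have f4 : σ (ι r * b + ι s * d) = ι r * b + ι s * d := by rw [map_add, map_mul, map_mul, fixι, fixι, hb, hd]
  have e7 : q x b 0 d 0 0 = q x (ι m * b + ι n * d) 0 (ι r * b + ι s * d) 0 0 := by
    rw [h.q_234, h.q_234, h.x_zero, mul_one, mul_one, hc2]
  have z : σ (0 : E) = 0 := map_zero σ
  have e8 := h.q_inj hb hd z f2 f4 z e7
  obtain ⟨rfl, rfl⟩ := zero_of b d e8.1.symm e8.2.2.1.symm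
  exact ⟨c, by rw [h.uq, h.q3]⟩

end Cfsg.Agent.H168.SRHex.LTwo
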