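import Cfsg.Agent.StdRank2.HexInv
import Cfsg.Agent.StdRank2.HexFacts
import Cfsg.Agent.H721.SR.Base

/-!
# Unipotent elements of a hexagonal root system in characteristic two (team SR, S4971; helper168)

* `sr_U` : every element of `U` is a product of two elements with square one, up to conjugation;
* `inv_of_fix` : `x 1 a`, `a ≠ 0`, inverts every element of `Q₁` which it fixes modulo `X₄`.
-/

set_option autoImplicit false

namespace Cfsg.Agent.H168.SRHex.Uni

open Cfsg.Agent.StdRank2.Hex Cfsg.Agent.StdRank2.Hex.HexTwo Cfsg.Agent.SplitTwo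
open Cfsg.Agent.H721.SR

universe u v

theorem sq_mul {G : Type*} [Group G] {y z : G} (hy : y * y = 1) (hz : z * z = 1) (c : y * z = z * y) :
    y * z * (y * z) = 1 := by
  calc y * z * (y * z) = y * (z * y) * z := by group
    _ = (y * y) * (z * z) := by rw [← c]; group
    _ = 1 := by rw [hy, hz, one_mul]

theorem sq_mul3 {G : Type*} [Group G] {y z w : G} (hy : y * y = 1) (hz : z * z = 1) (hw : w * w = 1)
    (c : y * z = z * y) (c' : y * w = w * y) (c'' : z * w = w * z) : y * z * w * (y * z * w) = 1 :=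
  sq_mul (sq_mul hy hz c) hw (by rw [mul_assoc, c'', ← mul_assoc, c', mul_assoc])

variable {E : Type u} [Field E] {σ : E ≃+* E} {G : Type v} [Group G] {x : ZMod 12 → E → G} (h : HexTwo σ x)
include h

/-- the splitting of the coordinate at 3 -/
theorem exists_split {a e : E} (ha : a ≠ 0) (hr : σ (e / a) ≠ e / a) (c : E) :
    ∃ c1 c2, c = c1 + c2 ∧ trc σ a c1 = 0 ∧ trc σ c2 e = 0 := by
  have two : (2 : E) = 0 := h.two
  set r := e / a with hrdef
  have he : e = r * a := (div_mul_cancel₀ e ha).symm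
  have hne : r + σ (σ r) ≠ 0 := by
    intro h0
    apply hr
    have h1 : σ (σ r) = r := by
      have := eq_neg_of_add_eq_zero_right h0
      rwa [h.neg_eq] at this
    have h2 := h.cube r
    rw [h1] at h2
    exact h2
  set y := (r + σ (σ r))⁻¹ with hy
  have hy1 : (r + σ (σ r)) * y = 1 := mul_inv_cancel₀ hne
  set v := (y + σ y) / a with hv
  have hva : a * v = y + σ y := by rw [hv, mul_div_cancel₀ _ ha]
  have t1 : trc σ a v = 0 := by
    unfold trc
    rw [hva, map_add, map_add, h.cube]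
    linear_combination (y + σ y + σ (σ y)) * two
  have t2 : trc σ e v = 1 := by
    have e1 : e * v = r * (y + σ y) := by rw [he, ← hva]; ring
    unfold trc
    rw [e1]
    -- all conjugates of `hy1`
    have k0 : r * y + σ (σ r) * y = 1 := by rw [← hy1]; ring
    have k1 : σ r * σ y + r * σ y = 1 := by
      have := congrArg σ k0
      rwa [map_add, map_mul, map_mul, h.cube, map_one] at this
    have k2 : σ (σ r) * σ (σ y) + σ r * σ (σ y) = 1 := by
      have := congrArg σ k1
      rwa [map_add, map_mul, map_mul, map_one] at this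
    simp only [map_mul, map_add, h.cube]
    linear_combination k0 + k1 + k2 + two
  have hτ := h.fix_trc e c
  refine ⟨trc σ e c * v, c + trc σ e c * v, ?_, ?_, ?_⟩
  · have := h.add_self (trc σ e c * v)
    linear_combination -this
  · rw [trc_smul_right hτ, t1, mul_zero]
  · rw [trc_comm, trc_add_right, trc_smul_right hτ, t2, mul_one, h.add_self]

/-- **Every element of `U` is strongly real.** -/
theorem sr_U {g : G} (hg : g ∈ UU σ x) : SR g := by
  obtain ⟨a, b, c, d, e, f, hb, hd, hf, rfl⟩ := h.mem_UU.1 hg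
  have z : σ (0 : E) = 0 := map_zero σ
  have sq : ∀ {k : ZMod 12} {a : E}, Ok σ k a → x k a * x k a = 1 := fun ha => h.x_sq ha
  by_cases hf0 : f ≠ 0
  · -- kill the coordinate at 5
    have e0 : e + f * (e / f) = 0 := by rw [mul_div_cancel₀ _ hf0, h.add_self]
    have key := h.x1_q (e / f) (c := c) (e := e) hb hd hf
    rw [e0] at key
    have hb' : σ (b + trc σ (e / f) c + trc σ (shp σ (e / f)) e + f * nrm σ (e / f)) =
        b + trc σ (e / f) c + trc σ (shp σ (e / f)) e + f * nrm σ (e / f) := by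
      simp only [map_add, map_mul, hb, h.fix_trc, hf, h.fix_nrm]
    have hd' : σ (d + trc σ (e / f) (shp σ e) + f ^ 2 * nrm σ (e / f) + f * trc σ (shp σ (e / f)) e) =
        d + trc σ (e / f) (shp σ e) + f ^ 2 * nrm σ (e / f) + f * trc σ (shp σ (e / f)) e := by
      simp only [map_add, map_mul, map_pow, hd, h.fix_trc, hf, h.fix_nrm]
    generalize b + trc σ (e / f) c + trc σ (shp σ (e / f)) e + f * nrm σ (e / f) = b' at key hb'
    generalize d + trc σ (e / f) (shp σ e) + f ^ 2 * nrm σ (e / f) + f * trc σ (shp σ (e / f)) e = d' at key hd'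
    generalize c + crs σ (e / f) e + f * shp σ (e / f) = c' at key
    have hconj : x 1 (e / f) * uu x a b c d e f * (x 1 (e / f))⁻¹ = (x 1 a * x 2 b') * (x 3 c' * x 4 d' * x 6 f) := by
      unfold uu
      have e1 : x 1 (e / f) * (x 1 a * q x b c d e f) = x 1 a * (x 1 (e / f) * q x b c d e f) := by
        rw [← mul_assoc, (h.x_comm_same (ok1 (e / f)) (ok1 a)).eq, mul_assoc]
      rw [e1, key, mul_assoc, mul_inv_cancel_right]
      unfold q
      rw [h.x_zero, mul_one]
      group
    have hsr : SR ((x 1 a * x 2 b') * (x 3 c' * x 4 d' * x 6 f)) := by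
      refine sr_of_mul ?_ ?_
      · exact sq_mul (sq (ok1 a)) (sq (ok_of_fix 2 hb')) (h.s12 a hb')
      · exact sq_mul3 (sq (ok3 c')) (sq (ok_of_fix 4 hd')) (sq (ok_of_fix 6 hf)) (h.s34 c' hd') (h.s36 c' hf)
          (h.s46 hd' hf)
    rw [← hconj] at hsr
    have := hsr.conj (x 1 (e / f))⁻¹
    have e2 : (x 1 (e / f))⁻¹ * (x 1 (e / f) * uu x a b c d e f * (x 1 (e / f))⁻¹) * (x 1 (e / f))⁻¹⁻¹ =
        uu x a b c d e f := by group
    rwa [e2] at this
  push Not at hf0
  subst hf0
  by_cases ha : a = 0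
  · subst ha
    rw [h.uq]
    have e1 : q x b c d e 0 = (x 2 b * x 3 c) * (x 4 d * x 5 e) := by
      unfold q
      rw [h.x_zero, mul_one]; group
    rw [e1]
    refine sr_of_mul ?_ ?_
    · exact sq_mul (sq (ok_of_fix 2 hb)) (sq (ok3 c)) (h.s23 hb c)
    · exact sq_mul (sq (ok_of_fix 4 hd)) (sq (ok5 e)) (h.s45 hd e)
  by_cases hr : σ (e / a) = e / a
  · -- kill the coordinate at 5 by `x 6 (e / a)`
    have e0 : uu x 0 0 0 0 0 (e / a) = x 6 (e / a) := by rw [h.uq, h.q6]
    have m1 := h.uu_mul (a := 0) (b := 0) (c := 0) (d := 0) (e := 0) (a' := a) (c' := c) (e' := e) z z hr hb hd z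
    have e5 : (0 : E) + e / a * a + e = 0 := by rw [div_mul_cancel₀ _ ha, zero_add, h.add_self]
    rw [e5] at m1
    have hb' : σ (0 + trc σ a 0 + trc σ (shp σ a) 0 + e / a * nrm σ a + b) =
        0 + trc σ a 0 + trc σ (shp σ a) 0 + e / a * nrm σ a + b := by
      simp only [map_add, map_mul, hb, h.fix_trc, hr, h.fix_nrm, z]
    have hd' : σ (0 + trc σ a (shp σ 0) + (e / a) ^ 2 * nrm σ a + e / a * trc σ (shp σ a) 0 + d + b * (e / a) +
        trc σ c (0 + e / a * a)) = 0 + trc σ a (shp σ 0) + (e / a) ^ 2 * nrm σ a + e / a * trc σ (shp σ a) 0 + d +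
        b * (e / a) + trc σ c (0 + e / a * a) := by
      simp only [map_add, map_mul, map_pow, hb, hd, h.fix_trc, hr, h.fix_nrm, z]
    generalize 0 + trc σ a 0 + trc σ (shp σ a) 0 + e / a * nrm σ a + b = b' at m1 hb'
    generalize 0 + trc σ a (shp σ 0) + (e / a) ^ 2 * nrm σ a + e / a * trc σ (shp σ a) 0 + d + b * (e / a) +
        trc σ c (0 + e / a * a) = d' at m1 hd'
    generalize 0 + crs σ a 0 + e / a * shp σ a + c = c' at m1
    have m2 : uu x (0 + a) b' c' d' 0 (e / a + 0) = (x 1 a * x 2 b') * (x 3 c' * x 4 d') * x 6 (e / a) := by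
      unfold uu q
      rw [h.x_zero, mul_one, zero_add, add_zero]; group
    rw [e0, m2] at m1
    have hsr : SR ((x 1 a * x 2 b') * (x 3 c' * x 4 d')) := by
      refine sr_of_mul ?_ ?_
      · exact sq_mul (sq (ok1 a)) (sq (ok_of_fix 2 hb')) (h.s12 a hb')
      · exact sq_mul (sq (ok3 c')) (sq (ok_of_fix 4 hd')) (h.s34 c' hd')
    have hconj : (x 1 a * x 2 b') * (x 3 c' * x 4 d') = x 6 (e / a) * uu x a b c d e 0 * (x 6 (e / a))⁻¹ := by
      rw [m1, mul_inv_cancel_right]
    rw [hconj] at hsr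
    have := hsr.conj (x 6 (e / a))⁻¹
    have e2 : (x 6 (e / a))⁻¹ * (x 6 (e / a) * uu x a b c d e 0 * (x 6 (e / a))⁻¹) * (x 6 (e / a))⁻¹⁻¹ =
        uu x a b c d e 0 := by group
    rwa [e2] at this
  · -- split the coordinate at 3
    obtain ⟨c1, c2, hc, k1, k2⟩ := exists_split h ha hr c
    have e1 : uu x a b c d e 0 = (x 1 a * x 2 b * x 3 c1) * (x 3 c2 * x 4 d * x 5 e) := by
      unfold uu q
      rw [h.x_zero, mul_one, hc, h.add 3 c1 c2 (ok3 c1) (ok3 c2)]
      group
    rw [e1]
    refine sr_of_mul ?_ ?_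
    · refine sq_mul3 (sq (ok1 a)) (sq (ok_of_fix 2 hb)) (sq (ok3 c1)) (h.s12 a hb) ?_ (h.s23 hb c1)
      have := h.c13 a c1
      rwa [k1, h.x_zero, one_mul] at this
    · refine sq_mul3 (sq (ok3 c2)) (sq (ok_of_fix 4 hd)) (sq (ok5 e)) (h.s34 c2 hd) ?_ (h.s45 hd e)
      have := h.c35 c2 e
      rwa [k2, h.x_zero, one_mul] at this

/-- inverse in `Q₁` -/
theorem q_inv {b c d e f : E} (hb : σ b = b) (hd : σ d = d) (hf : σ f = f) :
    (q x b c d e f)⁻¹ = q x b c (d + (b * f + trc σ c e)) e f := by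
  have t := h.fix_trc c e
  have two := h.two
  apply inv_eq_of_mul_eq_one_left
  rw [h.q_mul hb (by simp only [map_add, map_mul, hd, hb, hf, t]) hf hb hd hf, ← h.q_zero]
  have e1 : b + b = 0 := h.add_self b
  have e2 : c + c = 0 := h.add_self c
  have e3 : e + e = 0 := h.add_self e
  have e4 : f + f = 0 := h.add_self f
  have e5 : d + (b * f + trc σ c e) + d + b * f + trc σ c e = 0 := by
    linear_combination (d + b * f + trc σ c e) * two
  rw [e1, e2, e3, e4, e5]

/-- **`x 1 a` inverts the elements of `Q₁` which it fixes modulo `X₄`.** -/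
theorem inv_of_fix {a : E} (ha : a ≠ 0) {u z : G} (hu : u ∈ gen σ x (arc 2 5)) (hz : z ∈ gen σ x {4})
    (e0 : x 1 a * u * (x 1 a)⁻¹ = u⁻¹ * z) : x 1 a * u * (x 1 a)⁻¹ = u⁻¹ := by
  obtain ⟨b, c, d, e, f, hb, hd, hf, rfl⟩ := h.mem_Q1.1 hu
  obtain ⟨t, ht, rfl⟩ := h.mem_gen_singleton.1 hz
  have z0 : σ (0 : E) = 0 := map_zero σ
  have ht' : σ t = t := ht (by decide)
  have two := h.two
  have t1 := h.fix_trc a c
  have t2 := h.fix_trc (shp σ a) e
  have t3 := h.fix_trc a (shp σ e)
  have t4 := h.fix_nrm a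
  have t5 := h.fix_trc c e
  rw [h.x1_q a hb hd hf, mul_inv_cancel_right, q_inv h hb hd hf, ← h.q4,
    h.q_mul hb (by simp only [map_add, map_mul, hd, hb, hf, t5]) hf z0 ht' z0] at e0
  obtain ⟨i1, i2, i3, i4, i5⟩ := h.q_inj (by simp only [map_add, map_mul, hb, t1, t2, hf, t4])
    (by simp only [map_add, map_mul, map_pow, hd, t2, t3, hf, t4]) hf (by rw [add_zero]; exact hb)
    (by simp only [map_add, map_mul, hd, hb, hf, t5, ht', trc_zero_left, z0]) (by rw [add_zero]; exact hf) e0
  -- `f = 0`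
  have hf0 : f = 0 := by
    rw [add_zero, add_eq_left] at i4
    exact (mul_eq_zero.1 i4).resolve_right ha
  subst hf0
  have hc0 : crs σ a e = 0 := by
    rw [zero_mul, add_zero, add_zero, add_eq_left] at i2
    exact i2
  have hb0 : trc σ a c + trc σ (shp σ a) e = 0 := by
    rw [zero_mul, add_zero, add_zero, add_assoc, add_eq_left] at i1
    exact i1
  -- `e = r a` with `σ r = r`
  obtain ⟨r, hr⟩ : ∃ r, e = r * a := ⟨e / a, (div_mul_cancel₀ e ha).symm⟩
  subst hr
  have s1 : σ a ≠ 0 := fun e => ha (σ.injective (by rw [e, map_zero]))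
  have s2 : σ (σ a) ≠ 0 := fun e => s1 (σ.injective (by rw [e, map_zero]))
  have hrr : σ (σ r) = σ r := by
    unfold crs at hc0
    simp only [map_mul] at hc0
    have e1 : (σ (σ r) + σ r) * (σ a * σ (σ a)) = 0 := by linear_combination hc0
    have e2 := (mul_eq_zero.1 e1).resolve_right (mul_ne_zero s1 s2)
    linear_combination e2 - σ r * two
  have hrs : σ r = r := σ.injective hrr
  have k1 : trc σ (shp σ a) (r * a) = r * nrm σ a := by
    rw [trc_smul_right hrs]
    unfold trc shp nrm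
    simp only [map_mul, h.cube]
    linear_combination r * (a * σ a * σ (σ a)) * two
  have k2 : trc σ a (shp σ (r * a)) = r * (r * nrm σ a) := by
    have : shp σ (r * a) = r * (r * shp σ a) := by
      unfold shp
      simp only [map_mul, hrs]
      ring
    rw [this, trc_smul_right hrs, trc_smul_right hrs]
    unfold trc shp nrm
    simp only [map_mul, h.cube]
    linear_combination r * r * (a * σ a * σ (σ a)) * two
  have k3 : trc σ c (r * a) = r * (r * nrm σ a) := by
    rw [trc_smul_right hrs, trc_comm]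
    rw [k1] at hb0
    have := eq_neg_of_add_eq_zero_left hb0
    rw [h.neg_eq] at this
    rw [this]
  rw [h.x1_q a hb hd z0, mul_inv_cancel_right, q_inv h hb hd z0]
  have j1 : b + trc σ a c + trc σ (shp σ a) (r * a) + 0 * nrm σ a = b := by linear_combination hb0
  have j2 : c + crs σ a (r * a) + 0 * shp σ a = c := by linear_combination hc0
  have j3 : d + trc σ a (shp σ (r * a)) + 0 ^ 2 * nrm σ a + 0 * trc σ (shp σ a) (r * a) =
      d + (b * 0 + trc σ c (r * a)) := by
    rw [k2, k3]; ring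
  rw [j1, j2, j3, zero_mul, add_zero]

end Cfsg.Agent.H168.SRHex.Uni
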