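import Cfsg.Agent.H168.SRHex.Cen
import Cfsg.Agent.H168.SRHex.Uni
import Cfsg.Agent.H168.SRHex.LTwo
import Cfsg.Agent.S0241

/-!
# Real elements of `G₂(q)`, `³D₄(q)`, `q` even, are strongly real (team SR, S4971; helper168)
-/

set_option autoImplicit false

namespace Cfsg.Agent.H168.SRHex

open Cfsg.Agent.StdRank2.Hex Cfsg.Agent.StdRank2.Hex.HexTwo Cfsg.Agent.SplitTwo
open Cfsg.Agent.H721.SR Subgroup
open scoped commutatorElement

universe u v

/-- the 2-part and the odd part of an element -/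
theorem exists_parts {G : Type*} [Group G] [Finite G] (g : G) : ∃ u s : G, g = u * s ∧ u ∈ zpowers g ∧ s ∈ zpowers g ∧
    (∃ n, u ^ 2 ^ n = 1) ∧ ∃ m, Odd m ∧ s ^ m = 1 := by
  obtain ⟨k, m, hm, hkm⟩ := Nat.exists_eq_two_pow_mul_odd (n := orderOf g) (orderOf_pos g).ne'
  have hc : IsCoprime ((2 : ℤ) ^ k) (m : ℤ) := by
    apply IsCoprime.pow_left
    rw [Int.isCoprime_iff_gcd_eq_one]
    have := Nat.coprime_two_left.mpr hm
    exact_mod_cast this
  obtain ⟨a, b, hab⟩ := hc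
  refine ⟨g ^ (b * m), g ^ (a * 2 ^ k), ?_, ⟨_, rfl⟩, ⟨_, rfl⟩, ⟨k, ?_⟩, m, hm, ?_⟩
  · rw [← zpow_add, add_comm, hab, zpow_one]
  · rw [← zpow_natCast, ← zpow_mul]
    have : b * (m : ℤ) * ((2 ^ k : ℕ) : ℤ) = (orderOf g : ℤ) * b := by rw [hkm]; push_cast; ring
    rw [this, zpow_mul, zpow_natCast, pow_orderOf_eq_one, one_zpow]
  · rw [← zpow_natCast, ← zpow_mul]
    have : a * 2 ^ k * (m : ℤ) = (orderOf g : ℤ) * a := by rw [hkm]; push_cast; ring
    rw [this, zpow_mul, zpow_natCast, pow_orderOf_eq_one, one_zpow]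

theorem sq_ne_one {G : Type*} [Group G] {s : G} (hs : s ≠ 1) {m : ℕ} (hm : Odd m) (hsm : s ^ m = 1) : s * s ≠ 1 := by
  intro e
  apply hs
  obtain ⟨r, hr⟩ := hm
  rw [hr, pow_succ, pow_mul, pow_two, e, one_pow, one_mul] at hsm
  exact hsm

theorem inv_of_zpowers {G : Type*} [Group G] {t g s : G} (ht : t * g * t⁻¹ = g⁻¹) (hs : s ∈ zpowers g) :
    t * s * t⁻¹ = s⁻¹ := by
  obtain ⟨k, rfl⟩ := mem_zpowers_iff.1 hs
  rw [← conj_zpow, ht, inv_zpow]

theorem comm_of_zpowers {G : Type*} [Group G] {g s y : G} (hs : s ∈ zpowers g) (e : g * y = y * g) : s * y = y * s := by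
  obtain ⟨k, rfl⟩ := mem_zpowers_iff.1 hs
  exact (Commute.zpow_left (show Commute g y from e) k).eq

theorem conj_mem_zpowers {G : Type*} [Group G] {g s : G} (p : G) (hs : s ∈ zpowers g) :
    p * s * p⁻¹ ∈ zpowers (p * g * p⁻¹) := by
  obtain ⟨k, rfl⟩ := mem_zpowers_iff.1 hs
  exact mem_zpowers_iff.2 ⟨k, conj_zpow⟩

theorem isConj_conj {G : Type*} [Group G] {g : G} (p : G) (h : IsConj g g⁻¹) :
    IsConj (p * g * p⁻¹) (p * g * p⁻¹)⁻¹ := by
  obtain ⟨t, ht⟩ := isConj_iff.1 h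
  refine isConj_iff.2 ⟨p * t * p⁻¹, ?_⟩
  calc p * t * p⁻¹ * (p * g * p⁻¹) * (p * t * p⁻¹)⁻¹ = p * (t * g * t⁻¹) * p⁻¹ := by group
    _ = _ := by rw [ht]; group

theorem sr_of_conj {G : Type*} [Group G] {g : G} (p : G) (h : SR (p * g * p⁻¹)) : SR g := by
  have := h.conj p⁻¹
  have e : p⁻¹ * (p * g * p⁻¹) * p⁻¹⁻¹ = g := by group
  rwa [e] at this

variable {E : Type u} [Field E] {σ : E ≃+* E} {G : Type v} [Group G] {x : ZMod 12 → E → G} (h : HexTwo σ x)
include h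

/-- 2-elements -/
theorem sr_two [Finite E] [Finite G] (hA : AA σ x = ⊤) {g : G} {n : ℕ} (hn : g ^ 2 ^ n = 1) : SR g := by
  have hQ : IsPGroup 2 (zpowers g) := by
    refine IsPGroup.of_card (n := (padicValNat 2 (orderOf g))) ?_
    rw [Nat.card_zpowers]
    obtain ⟨j, -, hj⟩ := (Nat.dvd_prime_pow Nat.prime_two).1 (orderOf_dvd_of_pow_eq_one hn)
    rw [hj, padicValNat.prime_pow]
  obtain ⟨p, -, hp⟩ := h.sylow_conj (S := AA σ x) (gen_mono (Set.subset_univ _)) le_rfl hQ (by rw [hA]; exact le_top)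
  exact sr_of_conj p (Uni.sr_U h (hp g (mem_zpowers g)))

/-- elements `u s` with `s ∈ L₁` -/
theorem case4L [Finite E] [Finite G] (hA : AA σ x = ⊤) {g u s : G} (hr : IsConj g g⁻¹) (hg : g = u * s)
    (hu : u ∈ zpowers g) (hs : s ∈ zpowers g) {n : ℕ} (hun : u ^ 2 ^ n = 1) {m : ℕ} (hm : Odd m) (hsm : s ^ m = 1)
    (hs1 : s ≠ 1) (hc : g * x 4 1 = x 4 1 * g) (hz : u ≠ 1 → x 4 1 ∈ zpowers g)
    (hsL : s ∈ gen σ x {(1 : ZMod 12), 1 + 6}) : SR g := by
  have memP : ∀ y : G, y * x 4 1 = x 4 1 * y → y ∈ gen σ x (arc 1 7) := fun y hy =>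
    (h.mem_centralizer_x4 (by rw [hA]; trivial) (map_one σ) one_ne_zero).1 (by rw [hy, mul_inv_cancel_right])
  have hus : u * s = s * u := by
    have hgs : g * s = s * g := (comm_of_zpowers hs rfl).symm
    exact comm_of_zpowers hu hgs
  have hss := sq_ne_one hs1 hm hsm
  by_cases hu1 : u = 1
  · rw [hu1, one_mul] at hg
    rw [hg]
    obtain ⟨t, -, h1, h2⟩ := Levi.L_sr h hsL
    exact ⟨t, h1, h2⟩
  have huQ : u ∈ gen σ x (arc (1 + 1) 5) :=
    Levi.mem_Q_of_comm h hsL hs1 hm hsm (memP u (comm_of_zpowers hu hc)) hun hus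
  have e11 : (1 : ZMod 12) + 1 = 2 := by decide
  have e42 : (4 : ZMod 12) - 2 = 2 := by decide
  have hzz : x 4 1 * x 4 1 = 1 := h.x_sq (ok_one σ 4)
  obtain ⟨t, ht, hti⟩ := isConj_centralizer hzz (hz hu1) hr
  rw [mem_centralizer_singleton_iff] at ht
  obtain ⟨q, hq, l, hl, rfl⟩ := (h.mem_P 1).1 (memP t ht)
  have hts := inv_of_zpowers hti hs
  have htu := inv_of_zpowers hti hu
  -- `l` inverts `s`
  have hlsL : l * s * l⁻¹ ∈ gen σ x {(1 : ZMod 12), 1 + 6} := mul_mem (mul_mem hl hsL) (inv_mem hl)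
  have hls : l * s * l⁻¹ = s⁻¹ := by
    have e1 : (q * ((l * s * l⁻¹) * q⁻¹ * (l * s * l⁻¹)⁻¹)) * (l * s * l⁻¹) = 1 * s⁻¹ := by
      rw [one_mul, ← hts]; group
    exact (Levi.uniq h (mul_mem hq (Levi.Q_conj h (Levi.L_le 1 hlsL) (inv_mem hq))) (one_mem _) hlsL
      (inv_mem hsL) e1).2
  have hll := Levi.L_sq_of_inv h hl hsL hls hss
  have hl1 : l ≠ 1 := by
    rintro rfl
    apply hss
    rw [one_mul, inv_one, mul_one] at hls
    nth_rewrite 2 [hls]
    exact mul_inv_cancel s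
  obtain ⟨p, hp, a, -, ha0, hpl⟩ := Levi.L_conj_x h hl hll hl1
  -- `l` inverts `u`
  have hq2 : q ∈ gen σ x (arc (4 - 2) 5) := by rw [e42, ← e11]; exact hq
  have hu2 : u ∈ gen σ x (arc (4 - 2) 5) := by rw [e42, ← e11]; exact huQ
  have hw := h.comm_Q1 (k := 4) (by decide) hu2 (inv_mem hq2)
  obtain ⟨w, hwdef⟩ : ∃ w, w = ⁅u, q⁻¹⁆ := ⟨_, rfl⟩
  rw [← hwdef] at hw
  have hlu : l * u * l⁻¹ = u⁻¹ * w := by
    have e1 : l * u * l⁻¹ = q⁻¹ * (q * l * u * (q * l)⁻¹) * q := by group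
    rw [e1, htu, hwdef, commutatorElement_def]; group
  have hwp : p * w * p⁻¹ = w := by
    obtain ⟨c, hcc, rfl⟩ := h.mem_gen_singleton.1 hw
    have : Commute (x 4 c) p := h.comm_gen_long (k := 4) (by decide) hcc (by
      have e43 : (4 : ZMod 12) - 3 = 1 := by decide
      rw [e43]
      exact Levi.L_le 1 hp)
    rw [← this.eq, mul_inv_cancel_right]
  have hu'Q : p * u * p⁻¹ ∈ gen σ x (arc 2 5) := by
    have := Levi.Q_conj h (Levi.L_le 1 hp) huQ
    rwa [e11] at this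
  have key := Uni.inv_of_fix h ha0 hu'Q hw (by
    rw [← hpl]
    calc p * l * p⁻¹ * (p * u * p⁻¹) * (p * l * p⁻¹)⁻¹ = p * (l * u * l⁻¹) * p⁻¹ := by group
      _ = (p * u * p⁻¹)⁻¹ * (p * w * p⁻¹) := by rw [hlu]; group
      _ = _ := by rw [hwp])
  have hlu' : l * u * l⁻¹ = u⁻¹ := by
    rw [← hpl] at key
    have e1 : p * (l * u * l⁻¹) * p⁻¹ = p * u⁻¹ * p⁻¹ := by
      calc p * (l * u * l⁻¹) * p⁻¹ = p * l * p⁻¹ * (p * u * p⁻¹) * (p * l * p⁻¹)⁻¹ := by group
        _ = (p * u * p⁻¹)⁻¹ := key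
        _ = _ := by group
    exact mul_left_cancel (mul_right_cancel e1)
  refine ⟨l, hll, ?_⟩
  rw [hg]
  calc l * (u * s) * l⁻¹ = (l * u * l⁻¹) * (l * s * l⁻¹) := by group
    _ = u⁻¹ * s⁻¹ := by rw [hlu', hls]
    _ = (u * s)⁻¹ := by rw [hus]; group

/-- elements commuting with a long root involution -/
theorem case4 [Finite E] [Finite G] (hA : AA σ x = ⊤) {g : G} (hr : IsConj g g⁻¹) (hc : g * x 4 1 = x 4 1 * g)
    (hz : Even (orderOf g) → x 4 1 ∈ zpowers g) : SR g := by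
  obtain ⟨u, s, hg, hu, hs, ⟨n, hn⟩, m, hm, hsm⟩ := exists_parts g
  by_cases hs1 : s = 1
  · rw [hs1, mul_one] at hg
    rw [hg]
    exact sr_two h hA hn
  have hz' : u ≠ 1 → x 4 1 ∈ zpowers g := by
    intro hu1
    apply hz
    obtain ⟨k, rfl⟩ := mem_zpowers_iff.1 hu
    obtain ⟨j, -, hj⟩ := (Nat.dvd_prime_pow Nat.prime_two).1 (orderOf_dvd_of_pow_eq_one hn)
    have h1 : orderOf (g ^ k) ∣ orderOf g := by
      apply orderOf_dvd_of_pow_eq_one
      rw [← zpow_natCast, ← zpow_mul, mul_comm, zpow_mul, zpow_natCast, pow_orderOf_eq_one, one_zpow]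
    rw [hj] at h1
    have h2 : j ≠ 0 := by
      rintro rfl
      rw [pow_zero, orderOf_eq_one_iff] at hj
      exact hu1 hj
    exact even_iff_two_dvd.2 ((dvd_pow_self 2 h2).trans h1)
  have hsP : s ∈ gen σ x (arc 1 7) :=
    (h.mem_centralizer_x4 (by rw [hA]; trivial) (map_one σ) one_ne_zero).1 (by
      rw [comm_of_zpowers hs hc, mul_inv_cancel_right])
  have e11 : (1 : ZMod 12) + 1 = 2 := by decide
  obtain ⟨p, hp, hpL⟩ := Levi.exists_conj_L h (k := 1) (by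
    refine gen_mono ?_
    intro l hl
    rw [mem_arc] at hl ⊢
    have : ∀ l : ZMod 12, (l - (1 + 1)).val < 5 → (l - 1).val < 6 := by decide
    exact this l hl) hsP hm hsm
  have hpx : Commute (x 4 1) p := h.comm_gen_long (k := 4) (by decide) (ok_one σ 4) (by
    have e43 : (4 : ZMod 12) - 3 = 1 := by decide
    rw [e43]
    exact hp)
  have hpx' : p * x 4 1 * p⁻¹ = x 4 1 := by rw [← hpx.eq, mul_inv_cancel_right]
  refine sr_of_conj p (case4L h hA (isConj_conj p hr) (u := p * u * p⁻¹) (s := p * s * p⁻¹) ?_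
    (conj_mem_zpowers p hu) (conj_mem_zpowers p hs) (n := n) ?_ hm ?_ ?_ ?_ ?_ hpL)
  · nth_rewrite 1 [hg]; group
  · rw [conj_pow, hn]; group
  · rw [conj_pow, hsm]; group
  · intro e
    apply hs1
    have : s = p⁻¹ * (p * s * p⁻¹) * p := by group
    rw [this, e]; group
  · calc p * g * p⁻¹ * x 4 1 = p * g * p⁻¹ * (p * x 4 1 * p⁻¹) := by rw [hpx']
      _ = p * (g * x 4 1) * p⁻¹ := by group
      _ = (p * x 4 1 * p⁻¹) * (p * g * p⁻¹) := by rw [hc]; group
      _ = _ := by rw [hpx']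
  · intro hu1
    have h1 := conj_mem_zpowers p (hz' (by
      rintro rfl
      apply hu1
      group))
    rwa [hpx'] at h1

/-- elements commuting with a short root involution -/
theorem case3 [Finite E] [Finite G] (hA : AA σ x = ⊤) {g : G} (hc : g * x 3 1 = x 3 1 * g) : SR g := by
  obtain ⟨u, s, hg, hu, hs, ⟨n, hn⟩, m, hm, hsm⟩ := exists_parts g
  by_cases hs1 : s = 1
  · rw [hs1, mul_one] at hg
    rw [hg]
    exact sr_two h hA hn
  have memP : ∀ y : G, y * x 3 1 = x 3 1 * y → y ∈ gen σ x (arc 0 7) := fun y hy =>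
    Cen.mem_P_of_comm h (by rw [hA]; trivial) (by rw [hy, mul_inv_cancel_right])
  have hus : u * s = s * u := by
    have hgs : g * s = s * g := (comm_of_zpowers hs rfl).symm
    exact comm_of_zpowers hu hgs
  have hsP := memP s (comm_of_zpowers hs hc)
  have huP := memP u (comm_of_zpowers hu hc)
  obtain ⟨p, hp, hpL⟩ := Levi.exists_conj_L h (k := 0) (by
    refine gen_mono ?_
    intro l hl
    rw [mem_arc] at hl ⊢
    have : ∀ l : ZMod 12, (l - (0 + 1)).val < 5 → (l - 1).val < 6 := by decide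
    exact this l hl) hsP hm hsm
  have hs1' : p * s * p⁻¹ ≠ 1 := by
    intro e
    apply hs1
    have : s = p⁻¹ * (p * s * p⁻¹) * p := by group
    rw [this, e]; group
  have hsm' : (p * s * p⁻¹) ^ m = 1 := by rw [conj_pow, hsm]; group
  have hun' : (p * u * p⁻¹) ^ 2 ^ n = 1 := by rw [conj_pow, hn]; group
  have hus' : p * u * p⁻¹ * (p * s * p⁻¹) = p * s * p⁻¹ * (p * u * p⁻¹) := by
    calc p * u * p⁻¹ * (p * s * p⁻¹) = p * (u * s) * p⁻¹ := by group
      _ = _ := by rw [hus]; group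
  have huQ := Levi.mem_Q_of_comm h hpL hs1' hm hsm' (mul_mem (mul_mem hp huP) (inv_mem hp)) hun' hus'
  obtain ⟨c, hc3⟩ := LTwo.mem_X3 h hpL (sq_ne_one hs1' hm hsm') huQ hus'.symm
  refine sr_of_conj p ?_
  have e1 : p * g * p⁻¹ = (p * u * p⁻¹) * (p * s * p⁻¹) := by rw [hg]; group
  rw [e1, hc3]
  obtain ⟨t, htL, htt, hts⟩ := Levi.L_sr h hpL
  have e06 : (0 : ZMod 12) + 6 = 6 := by decide
  have tc : t * x 3 c = x 3 c * t := by
    have : ∀ y ∈ gen σ x {(0 : ZMod 12), 0 + 6}, Commute y (x 3 c) := by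
      intro y hy
      unfold gen at hy
      induction hy using Subgroup.closure_induction with
      | mem y hy =>
        obtain ⟨k, hk, t, ht, rfl⟩ := hy
        rcases hk with rfl | hk
        · exact swap (h.commL3 (k := 0) (by decide) (ht (by decide)) c)
        · rw [Set.mem_singleton_iff, e06] at hk
          subst hk
          exact (h.s36 c (ht (by decide))).symm
      | one => exact Commute.one_left _
      | mul y z _ _ h1 h2 => exact h1.mul_left h2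
      | inv y _ h1 => exact h1.inv_left
    exact this t htL
  refine ⟨t, htt, ?_⟩
  rw [hc3] at hus'
  calc t * (x 3 c * (p * s * p⁻¹)) * t⁻¹ = (t * x 3 c) * (p * s * p⁻¹) * t⁻¹ := by group
    _ = x 3 c * (t * (p * s * p⁻¹) * t⁻¹) := by rw [tc]; group
    _ = (x 3 c)⁻¹ * (p * s * p⁻¹)⁻¹ := by rw [hts, h.x_inv (ok3 c)]
    _ = (x 3 c * (p * s * p⁻¹))⁻¹ := by rw [hus']; group

/-- **Real elements of `G₂(q)`, `³D₄(q)`, `q` even, are strongly real.** -/
theorem real_sr [Finite E] [Finite G] (hA : AA σ x = ⊤) {g : G} (hr : IsConj g g⁻¹) : SR g := by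
  by_cases hg1 : g = 1
  · rw [hg1]; exact sr_one
  by_cases hodd : Odd (Nat.card (centralizer ({g} : Set G)))
  · obtain ⟨t, ht, e⟩ := Cfsg.Agent.S0241.result g hg1 hr hodd
    exact ⟨t, by rw [← pow_two, ← ht, pow_orderOf_eq_one], e⟩
  -- an involution commuting with `g`
  obtain ⟨i, hi1, hii, hci, hiz⟩ : ∃ i : G, i ≠ 1 ∧ i * i = 1 ∧ g * i = i * g ∧ (Even (orderOf g) → i ∈ zpowers g) := by
    by_cases he : Even (orderOf g)
    · obtain ⟨r, hr'⟩ := he
      have hpos := orderOf_pos g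
      refine ⟨g ^ r, ?_, ?_, ?_, fun _ => ?_⟩
      · intro e
        have := Nat.le_of_dvd (by omega) (orderOf_dvd_of_pow_eq_one e)
        omega
      · rw [← pow_add, ← hr', pow_orderOf_eq_one]
      · rw [← pow_succ, ← pow_succ']
      · exact pow_mem (mem_zpowers g) r
    · rw [Nat.not_odd_iff_even, even_iff_two_dvd] at hodd
      have : Fact (Nat.Prime 2) := ⟨Nat.prime_two⟩
      obtain ⟨i, hi⟩ := exists_prime_orderOf_dvd_card' 2 hodd
      refine ⟨i, ?_, ?_, (mem_centralizer_singleton_iff.1 i.2).symm, fun h1 => absurd h1 he⟩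
      · intro e
        have : i = 1 := Subtype.ext e
        rw [this, orderOf_one] at hi
        omega
      · rw [← Subgroup.coe_mul, ← pow_two, ← hi, pow_orderOf_eq_one, Subgroup.coe_one]
  have hQ : IsPGroup 2 (zpowers i) := by
    refine IsPGroup.of_card (n := 1) ?_
    rw [Nat.card_zpowers, pow_one]
    exact orderOf_eq_prime (by rw [pow_two, hii]) hi1
  obtain ⟨p, -, hp⟩ := h.sylow_conj (S := AA σ x) (gen_mono (Set.subset_univ _)) le_rfl hQ (by rw [hA]; exact le_top)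
  have hpi := hp i (mem_zpowers i)
  have hsq : p * i * p⁻¹ * (p * i * p⁻¹) = 1 := by
    calc p * i * p⁻¹ * (p * i * p⁻¹) = p * (i * i) * p⁻¹ := by group
      _ = 1 := by rw [hii]; group
  have hne : p * i * p⁻¹ ≠ 1 := by
    intro e
    apply hi1
    have : i = p⁻¹ * (p * i * p⁻¹) * p := by group
    rw [this, e]; group
  have comm : ∀ {a z : G}, a * (p * i * p⁻¹) * a⁻¹ = z →
      (a * p) * g * (a * p)⁻¹ * z = z * ((a * p) * g * (a * p)⁻¹) := by
    rintro a z rfl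
    calc (a * p) * g * (a * p)⁻¹ * (a * (p * i * p⁻¹) * a⁻¹) = (a * p) * (g * i) * (a * p)⁻¹ := by group
      _ = _ := by rw [hci]; group
  rcases h.cls_U hpi hsq hne with ⟨a, -, ha⟩ | ⟨a, -, ha⟩
  · refine sr_of_conj (a * p) (case4 h hA (isConj_conj _ hr) (comm ha) fun hev => ?_)
    have ho : orderOf (a * p * g * (a * p)⁻¹) = orderOf g :=
      orderOf_injective (MulAut.conj (a * p)).toMonoidHom (MulAut.conj (a * p)).injective g
    rw [ho] at hev
    have h1 := conj_mem_zpowers (a * p) (hiz hev)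
    have e1 : a * p * i * (a * p)⁻¹ = x 4 1 := by rw [← ha]; group
    rwa [e1] at h1
  · exact sr_of_conj (a * p) (case3 h hA (comm ha))

end Cfsg.Agent.H168.SRHex
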